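/-
Kernel checks of the data of common partners.
-/
import Cfsg.Agent.Lib.ThreeTrans.Exist.Data22
import Cfsg.Agent.Lib.CosetEnum.Fi22Class.Main

set_option autoImplicit false
set_option Elab.async false
set_option maxRecDepth 1000000

namespace CfsgThreeTrans.Exist

open CfsgLib.CosetEnum

theorem rows22 : ∀ i < fam22.N, fam22.okRow Fi3510.table 9 Fi22Class.zf i = true := by
  have h : fam22.okRows Fi3510.table 9 Fi22Class.zf 0 126 = true := by decide +kernel
  exact Fam.okRows_sound h fun i hi => absurd hi (Nat.not_lt_zero i)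

theorem gens22 : fam22.okGens Fi3510.table 9 Fi22Class.zf cp22 = true := by decide +kernel

theorem mem22 : allN fam22.N (vecs22.okMem 6 (fun k => k) fam22) = true := by decide +kernel

theorem cover22 : allN (3 ^ 6) (vecs22.okCover 6 (fun k => k) fam22) = true := by decide +kernel

theorem cpt22 : runT Fi3510.table 9 cw22.reverse 0 = cp22 ∧ (∀ x ∈ cw22, x < 9) ∧ cp22 < 3510 ∧
    Fi22Class.zf cp22 ≠ cp22 ∧ orbLab Fi3510.orb cp22 = 1 := by decide +kernel

end CfsgThreeTrans.Exist
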