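/-
A family of transpositions stable under conjugation by some of its members, read from a certified table.
-/
import Cfsg.Agent.Lib.CosetEnum.AutCent
import Cfsg.Agent.Lib.CosetEnum.AutCount

set_option autoImplicit false

namespace CfsgThreeTrans.Exist

open CfsgLib.CosetEnum

/-- Data of a family: its size, its points, the images under the generating members, the words and the
positions of the generating members. -/
structure Fam where
  /-- the number of members -/
  N : ℕ
  /-- the points, 20 bits each -/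
  pts : Tree
  /-- the images, 16 bits each -/
  img : Tree
  /-- words reaching the generating members -/
  jw : List (List ℕ)
  /-- positions of the generating members -/
  jp : List ℕ

namespace Fam

/-- The point of a member. -/
noncomputable def pt (F : Fam) (i : ℕ) : ℕ := entry F.pts (nat_lit 16) (nat_lit 20) i

/-- The word of a generating member. -/
noncomputable def wd (F : Fam) (j : ℕ) : List ℕ := F.jw.getD j []

/-- The position of a generating member. -/
noncomputable def pos (F : Fam) (j : ℕ) : ℕ := F.jp.getD j (nat_lit 0)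

/-- The image of the member `i` under the generating member `j`. -/
noncomputable def mv (F : Fam) (j i : ℕ) : ℕ :=
  entry F.img (nat_lit 16) (nat_lit 16) (Nat.add (Nat.mul j F.N) i)

/-- The checks at one member. -/
noncomputable def okRow (T : Table) (k : ℕ) (zf : ℕ → ℕ) (F : Fam) (i : ℕ) : Bool :=
  force (F.pt i) fun p => Nat.blt p T.n &&
    (Bool.rec true (Nat.blt p (F.pt (Nat.succ i))) (Nat.blt (Nat.succ i) F.N)) &&
    allN F.jw.length fun j => force (F.mv j i) fun i' =>
      Nat.blt i' F.N && Nat.beq (conjMap T k zf (F.wd j) p) (F.pt i')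

/-- The checks of the generating members. -/
noncomputable def okGens (T : Table) (k : ℕ) (zf : ℕ → ℕ) (c : ℕ) (F : Fam) : Bool :=
  allN F.jw.length fun j => force (F.pos j) fun i => force (F.pt i) fun p =>
    List.rec (motive := fun _ => Bool) true (fun x _ acc => Nat.blt x k && acc) (F.wd j) &&
    Nat.blt i F.N && Nat.beq (runT T k (F.wd j).reverse (nat_lit 0)) p &&
    !Nat.beq p (nat_lit 0) && !Nat.beq p c &&
    Nat.beq (conjMap T k zf (F.wd j) (nat_lit 0)) (nat_lit 0) && Nat.beq (conjMap T k zf (F.wd j) c) c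

/-- A range of rows. -/
noncomputable def okRows (T : Table) (k : ℕ) (zf : ℕ → ℕ) (F : Fam) (lo m : ℕ) : Bool :=
  allN m fun d => force (Nat.add lo d) fun i => okRow T k zf F i

theorem okRows_sound {T : Table} {k : ℕ} {zf : ℕ → ℕ} {F : Fam} {lo m : ℕ} (h : okRows T k zf F lo m = true)
    (h0 : ∀ i < lo, okRow T k zf F i = true) : ∀ i < lo + m, okRow T k zf F i = true := by
  intro i hi
  by_cases hi' : i < lo
  · exact h0 i hi'
  · have := allN_spec (f := fun d => force (Nat.add lo d) fun i => okRow T k zf F i) h (i - lo) (by omega)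
    rwa [force_eq, show Nat.add lo (i - lo) = i by show lo + (i - lo) = i; omega] at this

theorem letters_lt {k : ℕ} : ∀ {w : List ℕ},
    List.rec (motive := fun _ => Bool) true (fun x _ acc => Nat.blt x k && acc) w = true → ∀ x ∈ w, x < k
  | [], _ => by simp
  | a :: w, h => by
    simp only [Bool.and_eq_true, blt_iff] at h
    exact List.forall_mem_cons.mpr ⟨h.1, letters_lt h.2⟩

theorem pt_mono {T : Table} {k : ℕ} {zf : ℕ → ℕ} {F : Fam} (h : ∀ i < F.N, okRow T k zf F i = true) :
    ∀ {i i' : ℕ}, i < i' → i' < F.N → F.pt i < F.pt i' := by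
  intro i i' hlt
  induction hlt with
  | refl =>
    intro hN
    have := h i (by omega)
    simp only [okRow, force_eq, Bool.and_eq_true] at this
    have h2 := this.1.2
    rw [blt_iff.mpr (show Nat.succ i < F.N from hN)] at h2
    exact blt_iff.mp h2
  | @step m _ ih =>
    intro hN
    have := h m (by omega)
    simp only [okRow, force_eq, Bool.and_eq_true] at this
    have h2 := this.1.2
    rw [blt_iff.mpr (show Nat.succ m < F.N from hN)] at h2
    exact (ih (by omega)).trans (blt_iff.mp h2)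

variable {P : Pres} {C : Cert P} {hlt : ∀ w ∈ P.rels, ∀ x ∈ w, x < P.k}
  (hid : ∀ i < P.k, P.idx (P.gen i) = i) {t c : P.Grp} {zf : ℕ → ℕ} {k cp : ℕ} {F : Fam}

include hid in
/-- The members of a checked family. -/
theorem exists_members (hk : k = P.k) (hS : C.StabIsCent hlt t) (hz : C.Realises hlt t zf) (hcp : cp < C.T.n)
    (hc : C.IsPt hlt t c ⟨cp, hcp⟩) (hrow : ∀ i < F.N, okRow C.T k zf F i = true)
    (hgen : okGens C.T k zf cp F = true) :
    ∃ el : Fin F.N → P.Grp, Function.Injective el ∧ (∀ i, el i ∈ conjugatesOf t) ∧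
      (∀ i : Fin F.N, ∃ h, C.IsPt hlt t (el i) ⟨F.pt i, h⟩) ∧
      ∀ j < F.jw.length, ∃ hj : F.pos j < F.N,
        (el ⟨F.pos j, hj⟩ ≠ t ∧ Commute t (el ⟨F.pos j, hj⟩) ∧ el ⟨F.pos j, hj⟩ ≠ c ∧ Commute c (el ⟨F.pos j, hj⟩)) ∧
        ∀ i : Fin F.N, ∃ hi : F.mv j i < F.N,
          el ⟨F.mv j i, hi⟩ = el ⟨F.pos j, hj⟩ * el i * (el ⟨F.pos j, hj⟩)⁻¹ := by
  subst hk
  have hkk : C.D.k = P.k := C.hk
  have hlt' : ∀ i : Fin F.N, F.pt i < C.T.n := fun i => by
    have := hrow i i.2
    simp only [okRow, force_eq, Bool.and_eq_true, blt_iff] at this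
    exact this.1.1
  choose g hg using fun i : Fin F.N => C.exists_hom_zero hlt hid ⟨F.pt i, hlt' i⟩
  have hpt : ∀ i, C.IsPt hlt t (g i * t * (g i)⁻¹) ⟨F.pt i, hlt' i⟩ := fun i => ⟨g i, rfl, hg i⟩
  have hinj : ∀ i i', g i * t * (g i)⁻¹ = g i' * t * (g i')⁻¹ → F.pt i = F.pt i' := by
    intro i i' e
    have h1 := hpt i
    rw [e] at h1
    obtain ⟨u, hu, hu'⟩ := h1
    obtain ⟨v, hv, hv'⟩ := hpt i'
    have hm : C.hom hlt (v⁻¹ * u) ⟨0, C.hn⟩ = ⟨0, C.hn⟩ := (hS _).mpr (by
      calc v⁻¹ * u * t = v⁻¹ * (u * t * u⁻¹) * u := by group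
        _ = v⁻¹ * (v * t * v⁻¹) * u := by rw [hu, hv]
        _ = t * (v⁻¹ * u) := by group)
    have h3 := congrArg (C.hom hlt v) hm
    rw [← Equiv.Perm.mul_apply (C.hom hlt v), ← map_mul, mul_inv_cancel_left, hu', hv'] at h3
    exact congrArg Fin.val h3
  refine ⟨fun i => g i * t * (g i)⁻¹, fun i i' e => ?_, fun i => C.isPt_mem hlt (hpt i),
    fun i => ⟨hlt' i, hpt i⟩, fun j hj => ?_⟩
  · rcases lt_trichotomy (i : ℕ) i' with h | h | h
    · exact absurd (hinj i i' e) (pt_mono hrow h i'.2).ne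
    · exact Fin.ext h
    · exact absurd (hinj i i' e) (pt_mono hrow h i.2).ne'
  have hg' := allN_spec hgen j hj
  simp only [force_eq, Bool.and_eq_true, Bool.not_eq_true', blt_iff] at hg'
  obtain ⟨⟨⟨⟨⟨⟨hl, hjN⟩, hr⟩, hne0⟩, hnec⟩, h0⟩, hcc⟩ := hg'
  have hv := letters_lt hl
  set v := F.wd j with hvdef
  set s := (v.map P.σ).prod * t * ((v.map P.σ).prod)⁻¹ with hsdef
  have hsp : C.IsPt hlt t s ⟨F.pt (F.pos j), hlt' ⟨_, hjN⟩⟩ := C.isPt_word hlt hid v hv _ (by
    rw [hkk]; exact Nat.eq_of_beq_eq_true hr)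
  have hes : g ⟨F.pos j, hjN⟩ * t * (g ⟨F.pos j, hjN⟩)⁻¹ = s := C.isPt_unique hlt hS (hpt _) hsp
  have hreal := C.realises_conj hlt hid hz v hv
  rw [← hsdef, hkk] at hreal
  refine ⟨hjN, ⟨?_, ?_, ?_, ?_⟩, fun i => ?_⟩ <;> dsimp only
  · rw [hes]
    intro e
    rw [e] at hsp
    exact Nat.ne_of_beq_eq_false hne0 (congrArg Fin.val (C.isPt_unique' hlt hS hsp (C.isPt_base hlt)))
  · rw [hes]
    exact ((C.isPt_fix hlt hS (C.isPt_base hlt) s).mp (Fin.ext ((hreal _).trans (Nat.eq_of_beq_eq_true h0)))).symm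
  · rw [hes]
    intro e
    rw [e] at hsp
    exact Nat.ne_of_beq_eq_false hnec (congrArg Fin.val (C.isPt_unique' hlt hS hsp hc))
  · rw [hes]
    exact ((C.isPt_fix hlt hS hc s).mp (Fin.ext ((hreal _).trans (Nat.eq_of_beq_eq_true hcc)))).symm
  · have h := hrow i i.2
    simp only [okRow, force_eq, Bool.and_eq_true] at h
    have h' := allN_spec h.2 j hj
    simp only [force_eq, Bool.and_eq_true, blt_iff] at h'
    refine ⟨h'.1, ?_⟩
    rw [hes]
    refine C.isPt_unique hlt hS (hpt _) ?_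
    have hc' := C.isPt_conj hlt (hpt i) s
    have e2 : C.hom hlt s ⟨F.pt i, hlt' i⟩ = ⟨F.pt (F.mv j i), hlt' ⟨_, h'.1⟩⟩ :=
      Fin.ext ((hreal _).trans (Nat.eq_of_beq_eq_true h'.2))
    rwa [e2] at hc'

end Fam

end CfsgThreeTrans.Exist
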