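/-
Two groups generated by families with one table of conjugation agree modulo their centres.
-/
import Mathlib

set_option autoImplicit false

namespace CfsgThreeTrans.Exist

variable {H K : Type*} [Group H] [Group K] {ι : Type*}

/-- A pair of elements moves the two families in one way. -/
def Moves (s : ι → H) (t : ι → K) (p : H × K) : Prop :=
  ∀ i, ∃ i', s i' = p.1 * s i * p.1⁻¹ ∧ t i' = p.2 * t i * p.2⁻¹

theorem moves_inv [Finite ι] {s : ι → H} {t : ι → K} (hs : Function.Injective s) {p : H × K} (h : Moves s t p) :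
    Moves s t p⁻¹ := by
  choose f hfs hft using h
  have hf : Function.Injective f := fun i j e => hs (by
    have h1 := hfs i
    rw [e, hfs j] at h1
    exact (mul_left_cancel (mul_right_cancel h1)).symm)
  intro i
  obtain ⟨j, rfl⟩ := (Finite.surjective_of_injective hf) i
  refine ⟨j, ?_, ?_⟩
  · rw [hfs, Prod.fst_inv]; group
  · rw [hft, Prod.snd_inv]; group

theorem moves_closure [Finite ι] {s : ι → H} {t : ι → K} (hs : Function.Injective s) {X : Set (H × K)}
    (hX : ∀ p ∈ X, Moves s t p) : ∀ p ∈ Subgroup.closure X, Moves s t p := by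
  intro p hp
  induction hp using Subgroup.closure_induction with
  | mem p hp => exact hX p hp
  | one => exact fun i => ⟨i, by simp, by simp⟩
  | mul p q _ _ hp hq =>
    intro i
    obtain ⟨j, hj, hj'⟩ := hq i
    obtain ⟨k, hk, hk'⟩ := hp j
    refine ⟨k, ?_, ?_⟩
    · rw [hk, hj, Prod.fst_mul]; group
    · rw [hk', hj', Prod.snd_mul]; group
  | inv p _ hp => exact moves_inv hs hp

theorem central_of_fix {s : ι → H} {J : Set ι} (hJ : Subgroup.closure (s '' J) = ⊤) {h : H}
    (hfix : ∀ i, s i = h * s i * h⁻¹) : h ∈ Subgroup.center H := by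
  have hle : Subgroup.closure (s '' J) ≤ Subgroup.centralizer {h} := (Subgroup.closure_le _).mpr (by
    rintro _ ⟨i, -, rfl⟩
    refine Subgroup.mem_centralizer_singleton_iff.mpr ?_
    have := hfix i
    calc s i * h = h * s i * h⁻¹ * h := by rw [← this]
      _ = h * s i := by group)
  rw [hJ] at hle
  exact Subgroup.mem_center_iff.mpr fun g =>
    (Subgroup.mem_centralizer_singleton_iff.mp (hle (Subgroup.mem_top g)))

/-- Equal tables give an isomorphism of the central quotients carrying one family to the other. -/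
theorem exists_center_equiv [Finite ι] (s : ι → H) (t : ι → K) (hs : Function.Injective s)
    (ht : Function.Injective t) (J : Set ι) (hsJ : Subgroup.closure (s '' J) = ⊤)
    (htJ : Subgroup.closure (t '' J) = ⊤)
    (hreach : ∀ S : Set ι, J ⊆ S → (∀ j ∈ J, ∀ i ∈ S, ∀ i', s i' = s j * s i * (s j)⁻¹ → i' ∈ S) → ∀ i, i ∈ S)
    (hf : ∀ j ∈ J, ∀ i, ∃ i', s i' = s j * s i * (s j)⁻¹ ∧ t i' = t j * t i * (t j)⁻¹) :
    ∃ e : H ⧸ Subgroup.center H ≃* K ⧸ Subgroup.center K,
      ∀ i, e (QuotientGroup.mk (s i)) = QuotientGroup.mk (t i) := by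
  set P : Subgroup (H × K) := Subgroup.closure ((fun j => (s j, t j)) '' J) with hP
  have hmv : ∀ p ∈ P, Moves s t p := moves_closure hs (by rintro _ ⟨j, hj, rfl⟩; exact hf j hj)
  have hfst : ∀ h : H, ∃ k : K, (h, k) ∈ P := by
    intro h
    have : h ∈ P.map (MonoidHom.fst H K) := by
      rw [hP, MonoidHom.map_closure, ← Set.image_comp]
      show h ∈ Subgroup.closure (s '' J)
      rw [hsJ]; exact Subgroup.mem_top h
    obtain ⟨⟨a, b⟩, hab, rfl⟩ := this
    exact ⟨b, hab⟩
  have hsnd : ∀ k : K, ∃ h : H, (h, k) ∈ P := by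
    intro k
    have : k ∈ P.map (MonoidHom.snd H K) := by
      rw [hP, MonoidHom.map_closure, ← Set.image_comp]
      show k ∈ Subgroup.closure (t '' J)
      rw [htJ]; exact Subgroup.mem_top k
    obtain ⟨⟨a, b⟩, hab, rfl⟩ := this
    exact ⟨a, hab⟩
  have hcen : ∀ h k, (h, k) ∈ P → (h ∈ Subgroup.center H ↔ k ∈ Subgroup.center K) := by
    intro h k hp
    constructor
    · intro hc
      refine central_of_fix htJ fun i => ?_
      obtain ⟨i', h1, h2⟩ := hmv _ hp i
      dsimp only at h1 h2
      rw [← Subgroup.mem_center_iff.mp hc, mul_inv_cancel_right] at h1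
      rwa [hs h1] at h2
    · intro hc
      refine central_of_fix hsJ fun i => ?_
      obtain ⟨i', h1, h2⟩ := hmv _ hp i
      dsimp only at h1 h2
      rw [← Subgroup.mem_center_iff.mp hc, mul_inv_cancel_right] at h2
      rwa [ht h2] at h1
  choose k hk using hfst
  have hwd : ∀ h b, (h, b) ∈ P → (QuotientGroup.mk (k h) : K ⧸ Subgroup.center K) = QuotientGroup.mk b := by
    intro h b hb
    have := P.mul_mem (P.inv_mem (hk h)) hb
    rw [Prod.inv_mk, Prod.mk_mul_mk, inv_mul_cancel] at this
    exact QuotientGroup.eq.mpr ((hcen _ _ this).mp (one_mem _))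
  let φ : H →* K ⧸ Subgroup.center K := MonoidHom.mk' (fun h => QuotientGroup.mk (k h)) fun a b => by
    show (QuotientGroup.mk (k (a * b)) : K ⧸ Subgroup.center K) = _
    rw [hwd (a * b) (k a * k b) (P.mul_mem (hk a) (hk b)), QuotientGroup.mk_mul]
  have hsurj : Function.Surjective φ := by
    intro x
    obtain ⟨b, rfl⟩ := QuotientGroup.mk_surjective x
    obtain ⟨a, ha⟩ := hsnd b
    exact ⟨a, hwd a b ha⟩
  have hker : Subgroup.center H = φ.ker := by
    ext h
    rw [MonoidHom.mem_ker]
    exact (hcen _ _ (hk h)).trans (QuotientGroup.eq_one_iff _).symm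
  refine ⟨(QuotientGroup.quotientMulEquivOfEq hker).trans (QuotientGroup.quotientKerEquivOfSurjective φ hsurj),
    fun i => ?_⟩
  have hall : ∀ i, (s i, t i) ∈ P := hreach {i | (s i, t i) ∈ P}
    (fun j hj => Subgroup.subset_closure ⟨j, hj, rfl⟩) (fun j hj i hi i' hi' => by
      obtain ⟨i'', h1, h2⟩ := hf j hj i
      obtain rfl : i' = i'' := hs (hi'.trans h1.symm)
      have hjP : (s j, t j) ∈ P := Subgroup.subset_closure ⟨j, hj, rfl⟩
      have := P.mul_mem (P.mul_mem hjP hi) (P.inv_mem hjP)
      rw [Prod.inv_mk, Prod.mk_mul_mk, Prod.mk_mul_mk, ← h1, ← h2] at this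
      exact this)
  exact hwd _ _ (hall i)

end CfsgThreeTrans.Exist
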