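/-
Reflections of a split or diagonal form over the field with three elements, read from digit codes.
-/
import Cfsg.Agent.Lib.ThreeTrans.Exist.Tables
import Cfsg.Agent.Lib.CosetEnum.Rows
import Cfsg.Agent.Lib.CosetEnum.Sound
import Cfsg.Agent.Lib.ReflClass.IndexTwo

set_option autoImplicit false
set_option linter.unusedSectionVars false

namespace CfsgThreeTrans.Exist

open CfsgLib.CosetEnum Matrix QuadraticMap CfsgReflClass

abbrev K3 := ZMod 3

/-- A ternary digit. -/
noncomputable def dg (x i : ℕ) : ℕ := Nat.mod (Nat.div x (Nat.pow (nat_lit 3) i)) (nat_lit 3)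

/-- The bilinear form attached to a permutation of the coordinates. -/
noncomputable def bd (n : ℕ) (pf : ℕ → ℕ) (x y : ℕ) : ℕ :=
  Nat.rec (nat_lit 0) (fun k acc => force acc fun a =>
    Nat.mod (Nat.add a (Nat.mul (dg x k) (dg y (pf k)))) (nat_lit 3)) n

/-- A coordinate of the image of `x` under the reflection in `v`. -/
noncomputable def rdig (b x v k : ℕ) : ℕ := Nat.mod (Nat.add (dg x k) (Nat.mul b (dg v k))) (nat_lit 3)

/-- The reflection in `v` carries `x` to `y` up to sign. -/
noncomputable def okImg (n : ℕ) (pf : ℕ → ℕ) (v x y : ℕ) : Bool :=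
  force (bd n pf x v) fun b => allN n (fun k => Nat.beq (dg y k) (rdig b x v k)) ||
    allN n (fun k => Nat.beq (dg y k) (Nat.mod (Nat.mul (nat_lit 2) (rdig b x v k)) (nat_lit 3)))

/-- `y` is the negative of `x`. -/
noncomputable def okNeg (n : ℕ) (x y : ℕ) : Bool :=
  allN n fun k => Nat.beq (dg y k) (Nat.mod (Nat.mul (nat_lit 2) (dg x k)) (nat_lit 3))

variable {n : ℕ} (π : Equiv.Perm (Fin n))

/-- The vector of a code. -/
noncomputable def vec (n x : ℕ) : Fin n → K3 := fun i => (dg x i : K3)

theorem dg_lt (x i : ℕ) : dg x i < 3 := Nat.mod_lt _ (by norm_num)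

theorem vec_inj {x y : ℕ} (hx : x < 3 ^ n) (hy : y < 3 ^ n) (h : vec n x = vec n y) : x = y := by
  have key : finFunctionFinEquiv.symm (⟨x, hx⟩ : Fin (3 ^ n)) = finFunctionFinEquiv.symm ⟨y, hy⟩ := by
    funext i
    refine Fin.ext ?_
    have := congrArg ZMod.val (congrFun h i)
    simp only [vec, ZMod.val_natCast, Nat.mod_eq_of_lt (dg_lt _ _)] at this
    rw [finFunctionFinEquiv_symm_apply_val, finFunctionFinEquiv_symm_apply_val]
    exact this
  exact congrArg Fin.val (finFunctionFinEquiv.symm.injective key)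

theorem vec_surj (v : Fin n → K3) : ∃ x < 3 ^ n, vec n x = v := by
  refine ⟨finFunctionFinEquiv (fun i => (⟨(v i).val, ZMod.val_lt _⟩ : Fin 3)), Fin.isLt _, funext fun i => ?_⟩
  have h := congrFun (finFunctionFinEquiv.symm_apply_apply (fun i => (⟨(v i).val, ZMod.val_lt _⟩ : Fin 3))) i
  have h' := congrArg Fin.val h
  rw [finFunctionFinEquiv_symm_apply_val] at h'
  show (dg _ i : K3) = v i
  rw [show dg _ (i : ℕ) = (v i).val from h', ZMod.natCast_val, ZMod.cast_id]

/-- The bilinear form. -/
def B (x y : Fin n → K3) : K3 := ∑ i, x i * y (π i)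

/-- The quadratic form. -/
noncomputable def QR : QuadraticForm K3 (Fin n → K3) :=
  ∑ i, QuadraticMap.linMulLin (LinearMap.proj i) (LinearMap.proj (π i))

theorem QR_apply (x : Fin n → K3) : QR π x = B π x x := by
  simp [QR, B]

variable {π} (hπ : ∀ i, π (π i) = i)

include hπ in
theorem B_symm (x y : Fin n → K3) : B π x y = B π y x := by
  show ∑ i, x i * y (π i) = ∑ i, y i * x (π i)
  rw [← Equiv.sum_comp π]
  exact Finset.sum_congr rfl fun i _ => by rw [hπ, mul_comm]

include hπ in
theorem polar_QR (x y : Fin n → K3) : polar (⇑(QR π)) x y = 2 * B π x y := by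
  rw [polar, QR_apply, QR_apply, QR_apply]
  have e : B π (x + y) (x + y) = B π x x + B π x y + (B π y x + B π y y) := by
    simp only [B, Pi.add_apply, ← Finset.sum_add_distrib]
    exact Finset.sum_congr rfl fun i _ => by ring
  rw [e, B_symm hπ y x]
  ring

include hπ in
theorem QR_nondeg : (polarBilin (QR π)).Nondegenerate := by
  have key : ∀ x : Fin n → K3, (∀ y, polar (⇑(QR π)) x y = 0) → x = 0 := by
    intro x h
    funext i
    have h1 := h (Pi.single (π i) 1)
    rw [polar_QR hπ, B, Finset.sum_eq_single i] at h1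
    · rw [Pi.single_eq_same, mul_one] at h1
      exact (mul_eq_zero.mp h1).resolve_left (by decide)
    · intro j _ hj
      rw [Pi.single_eq_of_ne (fun e => hj (π.injective e)), mul_zero]
    · exact fun h => absurd (Finset.mem_univ i) h
  refine ⟨fun x hx => key x fun y => hx y, fun x hx => key x fun y => ?_⟩
  rw [polar_comm]
  exact hx y

variable {pf : ℕ → ℕ} (hpf : ∀ i : Fin n, pf i = π i)

theorem bd_sum (x y : ℕ) (pf : ℕ → ℕ) : ∀ m, (bd m pf x y : K3) = ∑ k ∈ Finset.range m, (dg x k : K3) * (dg y (pf k) : K3) := by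
  intro m
  induction m with
  | zero => rfl
  | succ m ih =>
    have e : bd (m + 1) pf x y = (bd m pf x y + dg x m * dg y (pf m)) % 3 := by
      rw [show bd (m + 1) pf x y = force (bd m pf x y) (fun a =>
        Nat.mod (Nat.add a (Nat.mul (dg x m) (dg y (pf m)))) 3) from rfl, force_eq]
      rfl
    rw [e, ZMod.natCast_mod, Nat.cast_add, Nat.cast_mul, ih, Finset.sum_range_succ]

include hpf in
theorem bd_vec (x y : ℕ) : (bd n pf x y : K3) = B π (vec n x) (vec n y) := by
  rw [bd_sum, B, Finset.sum_range (fun k => (dg x k : K3) * (dg y (pf k) : K3))]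
  exact Finset.sum_congr rfl fun i _ => by rw [hpf]; rfl

include hpf in
theorem Q_vec {x : ℕ} (h : Nat.beq (bd n pf x x) 1 = true) : QR π (vec n x) = 1 := by
  rw [QR_apply, ← bd_vec hpf, Nat.eq_of_beq_eq_true h, Nat.cast_one]

theorem neg_vec {x y : ℕ} (h : okNeg n x y = true) : vec n y = -vec n x := by
  funext i
  show (dg y i : K3) = -(dg x i : K3)
  have := allN_spec h i i.2
  rw [Nat.eq_of_beq_eq_true this]
  show (((2 * dg x i) % 3 : ℕ) : K3) = _
  rw [ZMod.natCast_mod, Nat.cast_mul]
  linear_combination (dg x i : K3) * three_zero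

include hπ hpf in
theorem img_vec {v x y : ℕ} (hv : QR π (vec n v) = 1) {r : ↥(Cfsg.isometryGroup K3 ⇑(QR π))}
    (hr : IsRefl (QR π) r (vec n v)) (h : okImg n pf v x y = true) :
    r.1.1 *ᵥ vec n x = vec n y ∨ r.1.1 *ᵥ vec n x = -vec n y := by
  have hrx : r.1.1 *ᵥ vec n x = vec n x + (bd n pf x v : K3) • vec n v := by
    rw [hr.2, hv, inv_one, one_mul, polar_QR hπ, bd_vec hpf, B_symm hπ (vec n v)]
    congr 2
    linear_combination (-B π (vec n x) (vec n v)) * three_zero
  simp only [okImg, force_eq, Bool.or_eq_true] at h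
  rcases h with h | h
  · left
    rw [hrx]
    funext i
    show _ = (dg y i : K3)
    rw [Nat.eq_of_beq_eq_true (allN_spec h i i.2)]
    show _ = (((dg x i + bd n pf x v * dg v i) % 3 : ℕ) : K3)
    rw [ZMod.natCast_mod, Nat.cast_add, Nat.cast_mul]
    rfl
  · right
    rw [hrx]
    funext i
    show _ = -(dg y i : K3)
    rw [Nat.eq_of_beq_eq_true (allN_spec h i i.2)]
    show _ = -(((2 * ((dg x i + bd n pf x v * dg v i) % 3)) % 3 : ℕ) : K3)
    rw [ZMod.natCast_mod, Nat.cast_mul, ZMod.natCast_mod, Nat.cast_add, Nat.cast_mul]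
    show (dg x i : K3) + (bd n pf x v : K3) * (dg v i : K3) = _
    linear_combination ((dg x i : K3) + (bd n pf x v : K3) * (dg v i : K3)) * three_zero

/-- Two reflections of norm one coincide only for opposite or equal vectors. -/
theorem refl_eq {Q : QuadraticForm K3 (Fin n → K3)} {v w : Fin n → K3} (hv : Q v = 1) (hw : Q w = 1)
    {r : ↥(Cfsg.isometryGroup K3 ⇑Q)} (h1 : IsRefl Q r v) (h2 : IsRefl Q r w) : v = w ∨ v = -w := by
  have e := (h1.2 v).symm.trans (h2.2 v)
  rw [hv, hw, inv_one, one_mul, one_mul, polar_self_two, hv] at e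
  have e' : v = -(polar (⇑Q) w v) • w := by
    have := add_left_cancel e
    rwa [show -((2 : K3) * 1) = 1 from rfl, one_smul] at this
  have hq := congrArg Q e'
  rw [QuadraticMap.map_smul, hv, hw, smul_eq_mul, mul_one] at hq
  rcases (by decide : ∀ a : K3, 1 = a * a → a = 1 ∨ a = -1) _ hq with h | h
  · left; rw [e', h, one_smul]
  · right; rw [e', h, neg_one_smul]

end CfsgThreeTrans.Exist
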