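/-
A checked family of transpositions matched with the reflections of norm one.
-/
import Cfsg.Agent.Lib.ThreeTrans.Exist.Family
import Cfsg.Agent.Lib.ThreeTrans.Exist.Refl

set_option autoImplicit false
set_option linter.unusedSectionVars false

namespace CfsgThreeTrans.Exist

open CfsgLib.CosetEnum Matrix QuadraticMap CfsgReflClass

/-- Vector data of a family. -/
structure Vecs where
  /-- the code of the vector of a member -/
  code : Tree
  /-- the code of the negative vector -/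
  ncode : Tree
  /-- the member of a vector -/
  inv : Tree
  /-- the spanning forest: rank, generating member and parent -/
  fr : Tree

namespace Vecs

/-- The code of a member. -/
noncomputable def cd (V : Vecs) (i : ℕ) : ℕ := entry V.code (nat_lit 16) (nat_lit 16) i

/-- The negative code of a member. -/
noncomputable def ncd (V : Vecs) (i : ℕ) : ℕ := entry V.ncode (nat_lit 16) (nat_lit 16) i

/-- The member of a code. -/
noncomputable def back (V : Vecs) (x : ℕ) : ℕ := entry V.inv (nat_lit 16) (nat_lit 16) x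

/-- The forest entry of a member. -/
noncomputable def fre (V : Vecs) (i : ℕ) : ℕ := entry V.fr (nat_lit 16) (nat_lit 32) i

/-- The rank of a member. -/
noncomputable def rk (V : Vecs) (i : ℕ) : ℕ := fld (V.fre i) (nat_lit 0) (nat_lit 12)

/-- The checks at one member. -/
noncomputable def okMem (n : ℕ) (pf : ℕ → ℕ) (F : Fam) (V : Vecs) (i : ℕ) : Bool :=
  force (V.cd i) fun x => force (V.ncd i) fun y => force (Nat.pow (nat_lit 3) n) fun M =>
    Nat.blt x M && Nat.blt y M && Nat.beq (bd n pf x x) (nat_lit 1) && okNeg n x y &&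
    Nat.beq (V.back x) i && Nat.beq (V.back y) i &&
    allN F.jw.length (fun j => force (F.mv j i) fun i' => force (V.cd i') fun z =>
      force (V.cd (F.pos j)) fun v => okImg n pf v x z) &&
    force (V.fre i) fun e => force (fld e (nat_lit 12) (nat_lit 4)) fun j => force (fld e (nat_lit 16) (nat_lit 16)) fun p =>
      Nat.blt j F.jw.length && (Nat.beq (F.pos j) i ||
        (Nat.blt p F.N && Nat.blt (V.rk p) (V.rk i) && Nat.beq (F.mv j p) i))

/-- The checks at one vector. -/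
noncomputable def okCover (n : ℕ) (pf : ℕ → ℕ) (F : Fam) (V : Vecs) (x : ℕ) : Bool :=
  !Nat.beq (bd n pf x x) (nat_lit 1) ||
    force (V.back x) fun i => Nat.blt i F.N && (Nat.beq x (V.cd i) || Nat.beq x (V.ncd i))

variable {G : Type*} [Group G] {F : Fam} {V : Vecs} {n : ℕ} {pf : ℕ → ℕ} {π : Equiv.Perm (Fin n)}

/-- A matched family generates a group that is, modulo its centre, the projective reflection group. -/
theorem match_equiv (hπ : ∀ i, π (π i) = i) (hpf : ∀ i : Fin n, pf i = π i) (el : Fin F.N → G)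
    (hinj : Function.Injective el) (hpos : ∀ j < F.jw.length, F.pos j < F.N)
    (hconj : ∀ j (hj : j < F.jw.length), ∀ i : Fin F.N, ∃ hi : F.mv j i < F.N,
      el ⟨F.mv j i, hi⟩ = el ⟨F.pos j, hpos j hj⟩ * el i * (el ⟨F.pos j, hpos j hj⟩)⁻¹)
    (hmem : allN F.N (okMem n pf F V) = true) (hcov : allN (3 ^ n) (okCover n pf F V) = true) :
    let K := Subgroup.closure {x | ∃ (j : ℕ) (hj : j < F.jw.length), x = el ⟨F.pos j, hpos j hj⟩}
    (∀ i, el i ∈ K) ∧ Nonempty (↥K ⧸ Subgroup.center ↥K ≃*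
      ↥(Cfsg.reflectionSubgroup (⇑(QR π)) 1) ⧸ Subgroup.center ↥(Cfsg.reflectionSubgroup (⇑(QR π)) 1)) := by
  intro K
  have hm : ∀ i : Fin F.N, (V.cd i < 3 ^ n ∧ V.ncd i < 3 ^ n) ∧
      (QR π (vec n (V.cd i)) = 1 ∧ vec n (V.ncd i) = -vec n (V.cd i)) ∧
      (V.back (V.cd i) = i ∧ V.back (V.ncd i) = i) ∧
      (∀ j < F.jw.length, okImg n pf (V.cd (F.pos j)) (V.cd i) (V.cd (F.mv j i)) = true) ∧
      ∃ j, j < F.jw.length ∧ (F.pos j = i ∨ ∃ p, p < F.N ∧ V.rk p < V.rk i ∧ F.mv j p = i) := by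
    intro i
    have h := allN_spec hmem i i.2
    simp only [okMem, force_eq, Bool.and_eq_true, blt_iff, Bool.or_eq_true] at h
    obtain ⟨⟨⟨⟨⟨⟨⟨h1, h2⟩, h3⟩, h4⟩, h5⟩, h6⟩, h7⟩, h8, h9⟩ := h
    refine ⟨⟨h1, h2⟩, ⟨Q_vec hpf h3, neg_vec h4⟩, ⟨Nat.eq_of_beq_eq_true h5, Nat.eq_of_beq_eq_true h6⟩,
      fun j hj => ?_, _, h8, h9.imp Nat.eq_of_beq_eq_true fun h => ⟨_, h.1.1, h.1.2, Nat.eq_of_beq_eq_true h.2⟩⟩
    have := allN_spec h7 j hj
    simpa only [force_eq] using this
  set R := Cfsg.reflectionSubgroup (⇑(QR π)) 1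
  -- membership
  have hin : ∀ i, el i ∈ K := by
    intro i
    induction hr : V.rk i using Nat.strong_induction_on generalizing i with
    | _ r ih =>
      obtain ⟨j, hj, h | ⟨p, hp, hlt, he⟩⟩ := (hm i).2.2.2.2
      · rw [show i = ⟨F.pos j, hpos j hj⟩ from Fin.ext h.symm]
        exact Subgroup.subset_closure ⟨j, hj, rfl⟩
      · obtain ⟨hi, e⟩ := hconj j hj ⟨p, hp⟩
        rw [show i = ⟨F.mv j p, hi⟩ from Fin.ext he.symm, e]
        have hs : el ⟨F.pos j, hpos j hj⟩ ∈ K := Subgroup.subset_closure ⟨j, hj, rfl⟩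
        exact mul_mem (mul_mem hs (ih _ (hr ▸ hlt) ⟨p, hp⟩ rfl)) (inv_mem hs)
  refine ⟨hin, ?_⟩
  let s : Fin F.N → K := fun i => ⟨el i, hin i⟩
  choose r hr using fun i : Fin F.N =>
    IsRefl.exists (show QR π (vec n (V.cd i)) ≠ 0 by rw [(hm i).2.1.1]; exact one_ne_zero)
  have hrR : ∀ i, r i ∈ R := fun i =>
    Subgroup.subset_closure ⟨_, (hm i).2.1.1, (isRefl_iff (hr i).1).mp (hr i)⟩
  let t : Fin F.N → R := fun i => ⟨r i, hrR i⟩
  have htinj : Function.Injective t := by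
    intro i i' e
    have e' : r i = r i' := congrArg Subtype.val e
    have h := refl_eq (hm i).2.1.1 (hm i').2.1.1 (hr i) (e' ▸ hr i')
    refine Fin.ext ?_
    rcases h with h | h
    · rw [← (hm i).2.2.1.1, vec_inj (hm i).1.1 (hm i').1.1 h, (hm i').2.2.1.1]
    · rw [← (hm i').2.1.2] at h
      rw [← (hm i).2.2.1.1, vec_inj (hm i).1.1 (hm i').1.2 h, (hm i').2.2.1.2]
  have htconj : ∀ j (hj : j < F.jw.length), ∀ i : Fin F.N, ∀ hi : F.mv j i < F.N,
      t ⟨F.mv j i, hi⟩ = t ⟨F.pos j, hpos j hj⟩ * t i * (t ⟨F.pos j, hpos j hj⟩)⁻¹ := by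
    intro j hj i hi
    refine Subtype.ext ?_
    show r _ = r _ * r i * (r _)⁻¹
    have h := (hr i).conj (g := r ⟨F.pos j, hpos j hj⟩)
    rcases img_vec hπ hpf (hm ⟨F.pos j, hpos j hj⟩).2.1.1 (hr _) ((hm i).2.2.2.1 j hj) with e | e
    · rw [e] at h
      exact (hr ⟨_, hi⟩).unique h
    · rw [e] at h
      refine iso_ext _ fun x => ?_
      rw [(hr ⟨_, hi⟩).2, h.2, QuadraticMap.map_neg, polar_neg_left]
      simp
  let J : Set (Fin F.N) := {i | ∃ j, j < F.jw.length ∧ (i : ℕ) = F.pos j}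
  have hreach : ∀ S : Set (Fin F.N), J ⊆ S →
      (∀ j ∈ J, ∀ i ∈ S, ∀ i', s i' = s j * s i * (s j)⁻¹ → i' ∈ S) → ∀ i, i ∈ S := by
    intro S hJ hS i
    induction hrk : V.rk i using Nat.strong_induction_on generalizing i with
    | _ k ih =>
      obtain ⟨j, hj, h | ⟨p, hp, hlt, he⟩⟩ := (hm i).2.2.2.2
      · exact hJ ⟨j, hj, h.symm⟩
      · obtain ⟨hi, e⟩ := hconj j hj ⟨p, hp⟩
        have := hS ⟨F.pos j, hpos j hj⟩ ⟨j, hj, rfl⟩ ⟨p, hp⟩ (ih _ (hrk ▸ hlt) ⟨p, hp⟩ rfl) ⟨F.mv j p, hi⟩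
          (Subtype.ext e)
        rwa [show i = ⟨F.mv j p, hi⟩ from Fin.ext he.symm]
  have hsJ : Subgroup.closure (s '' J) = ⊤ := by
    refine Subgroup.map_injective K.subtype_injective ?_
    rw [MonoidHom.map_closure, ← MonoidHom.range_eq_map, Subgroup.range_subtype]
    refine congrArg Subgroup.closure ?_
    ext x
    constructor
    · rintro ⟨_, ⟨i, ⟨j, hj, hi⟩, rfl⟩, rfl⟩
      exact ⟨j, hj, congrArg el (Fin.ext hi)⟩
    · rintro ⟨j, hj, rfl⟩
      exact ⟨_, ⟨_, ⟨j, hj, rfl⟩, rfl⟩, rfl⟩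
  have htJ : Subgroup.closure (t '' J) = ⊤ := by
    have hall : ∀ i, t i ∈ Subgroup.closure (t '' J) := by
      intro i
      induction hrk : V.rk i using Nat.strong_induction_on generalizing i with
      | _ k ih =>
        obtain ⟨j, hj, h | ⟨p, hp, hlt, he⟩⟩ := (hm i).2.2.2.2
        · exact Subgroup.subset_closure ⟨i, ⟨j, hj, h.symm⟩, rfl⟩
        · obtain ⟨hi, -⟩ := hconj j hj ⟨p, hp⟩
          rw [show i = ⟨F.mv j p, hi⟩ from Fin.ext he.symm, htconj j hj ⟨p, hp⟩ hi]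
          have hs : t ⟨F.pos j, hpos j hj⟩ ∈ Subgroup.closure (t '' J) :=
            Subgroup.subset_closure ⟨_, ⟨j, hj, rfl⟩, rfl⟩
          exact mul_mem (mul_mem hs (ih _ (hrk ▸ hlt) ⟨p, hp⟩ rfl)) (inv_mem hs)
    refine Subgroup.map_injective R.subtype_injective ?_
    rw [← MonoidHom.range_eq_map, Subgroup.range_subtype]
    refine le_antisymm (Subgroup.map_subtype_le _) ((Subgroup.closure_le _).mpr ?_)
    rintro g ⟨v, hv, hg⟩
    obtain ⟨x, hx, rfl⟩ := vec_surj v
    have h := allN_spec hcov x hx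
    simp only [okCover, force_eq, Bool.or_eq_true, Bool.not_eq_true', Bool.and_eq_true, blt_iff] at h
    rcases h with h | ⟨hN, h⟩
    · exfalso
      apply Nat.ne_of_beq_eq_false h
      rw [QR_apply, ← bd_vec hpf] at hv
      have h3 : bd n pf x x < 3 := by
        cases n with
        | zero => exact Nat.zero_lt_succ _
        | succ m =>
          rw [show bd (m + 1) pf x x = force (bd m pf x x) (fun a =>
            Nat.mod (Nat.add a (Nat.mul (dg x m) (dg x (pf m)))) 3) from rfl, force_eq]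
          exact Nat.mod_lt _ (by norm_num)
      have := congrArg ZMod.val hv
      rwa [ZMod.val_natCast, Nat.mod_eq_of_lt h3] at this
    · have hgr : IsRefl (QR π) g (vec n x) := (isRefl_iff (hv ▸ one_ne_zero)).mpr hg
      refine ⟨t ⟨_, hN⟩, hall _, ?_⟩
      show r _ = g
      rcases h with h | h
      · rw [Nat.eq_of_beq_eq_true h] at hgr
        exact (hr _).unique hgr
      · rw [Nat.eq_of_beq_eq_true h, (hm ⟨_, hN⟩).2.1.2] at hgr
        refine iso_ext _ fun y => ?_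
        rw [(hr _).2, hgr.2, QuadraticMap.map_neg, polar_neg_left]
        simp
  obtain ⟨e, -⟩ := exists_center_equiv s t (fun i i' e => hinj (congrArg Subtype.val e)) htinj J hsJ htJ hreach
    (by
      rintro i ⟨j, hj, hi⟩ k
      obtain rfl : i = ⟨F.pos j, hpos j hj⟩ := Fin.ext hi
      obtain ⟨hk, e⟩ := hconj j hj k
      exact ⟨⟨F.mv j k, hk⟩, Subtype.ext e, htconj j hj k hk⟩)
  exact ⟨e⟩

end Vecs

end CfsgThreeTrans.Exist
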