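/-
Transposition centralisers and common partners in a certified permutation representation.
-/
import Cfsg.Agent.Lib.ThreeTrans.Exist.Match
import Cfsg.Agent.Lib.ThreeTrans.Classes
import Cfsg.Prelude.Def_FischerSpaces
import Cfsg.Prelude.Def_SporadicB

set_option autoImplicit false
set_option linter.unusedSectionVars false

namespace CfsgThreeTrans.Exist

open Cfsg CfsgLib.CosetEnum

/-- The partners generate a centraliser that is a non-split double cover of a simple group. -/
theorem closure_partners {G : Type*} [Group G] [Finite G] {D : Set G} {t : G} (hD : ∀ g : G, ∀ d ∈ D, g * d * g⁻¹ ∈ D)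
    {S : Type*} [Group S] [IsSimpleGroup S]
    (hdc : IsNonsplitDoubleCover ↥(Subgroup.centralizer ({t} : Set G)) S)
    {x : G} (hx : x ∈ Ds D t) (hxn : ∃ g ∈ Subgroup.centralizer ({t} : Set G), ¬ Commute g x) :
    Subgroup.closure (Ds D t) = Subgroup.centralizer ({t} : Set G) := by
  set H := Subgroup.centralizer ({t} : Set G)
  have hle : Subgroup.closure (Ds D t) ≤ H :=
    (Subgroup.closure_le _).mpr fun y hy => Subgroup.mem_centralizer_singleton_iff.mpr hy.2.2.symm.eq
  have hnorm : ((Subgroup.closure (Ds D t)).subgroupOf H).Normal := by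
    refine ⟨fun a ha g => ?_⟩
    rw [Subgroup.mem_subgroupOf] at ha ⊢
    have hmap : (Subgroup.closure (Ds D t)).map (MulAut.conj (g : G)).toMonoidHom ≤ Subgroup.closure (Ds D t) := by
      rw [MonoidHom.map_closure, Subgroup.closure_le]
      rintro _ ⟨y, ⟨hy, hne, hc⟩, rfl⟩
      refine Subgroup.subset_closure ?_
      show (g : G) * y * (g : G)⁻¹ ∈ Ds D t
      have hgt : (g : G) * t * (g : G)⁻¹ = t := by
        rw [Subgroup.mem_centralizer_singleton_iff.mp g.2, mul_inv_cancel_right]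
      refine ⟨hD _ _ hy, fun e => hne ?_, ?_⟩
      · have e' : (g : G) * y * (g : G)⁻¹ = (g : G) * t * (g : G)⁻¹ := e.trans hgt.symm
        exact mul_left_cancel (mul_right_cancel e')
      · have := hc.map (MulAut.conj (g : G))
        rw [MulAut.conj_apply, MulAut.conj_apply, hgt] at this
        exact this
    exact hmap ⟨_, ha, rfl⟩
  obtain ⟨hc2, ⟨e⟩, hns⟩ := hdc
  set L := (Subgroup.closure (Ds D t)).subgroupOf H
  set q := QuotientGroup.mk' (Subgroup.center H)
  haveI : IsSimpleGroup (H ⧸ Subgroup.center H) := by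
    haveI : Nontrivial (H ⧸ Subgroup.center H) := e.toEquiv.nontrivial
    exact IsSimpleGroup.isSimpleGroup_of_surjective (f := e.symm.toMonoidHom) e.symm.surjective
  rcases IsSimpleGroup.eq_bot_or_eq_top_of_normal (L.map q) (hnorm.map q (QuotientGroup.mk'_surjective _)) with h | h
  · exfalso
    obtain ⟨g, hg, hn⟩ := hxn
    have hxH : x ∈ H := hle (Subgroup.subset_closure hx)
    have : q ⟨x, hxH⟩ ∈ L.map q := Subgroup.mem_map_of_mem _ (Subgroup.subset_closure hx : x ∈ Subgroup.closure (Ds D t))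
    rw [h, Subgroup.mem_bot] at this
    exact hn (congrArg Subtype.val (Subgroup.mem_center_iff.mp ((QuotientGroup.eq_one_iff _).mp this) ⟨g, hg⟩))
  · have hsup : L ⊔ Subgroup.center H = ⊤ := by
      have := congrArg (Subgroup.comap q) h
      rwa [Subgroup.comap_map_eq, Subgroup.comap_top, QuotientGroup.ker_mk'] at this
    by_cases hz : Subgroup.center H ≤ L
    · rw [sup_eq_left.mpr hz] at hsup
      exact le_antisymm hle fun y hy => (hsup ▸ Subgroup.mem_top (⟨y, hy⟩ : H) : (⟨y, hy⟩ : H) ∈ L)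
    · exfalso
      have hbot : Subgroup.center H ⊓ L = ⊥ := by
        haveI : Fact (Nat.card (Subgroup.center H)).Prime := ⟨hc2 ▸ Nat.prime_two⟩
        rcases (L.subgroupOf (Subgroup.center H)).eq_bot_or_eq_top_of_prime_card with h1 | h1
        · rwa [Subgroup.subgroupOf_eq_bot, disjoint_iff, inf_comm] at h1
        · exact absurd (Subgroup.subgroupOf_eq_top.mp h1) hz
      refine hns L ?_
      refine Subgroup.isComplement'_of_disjoint_and_mul_eq_univ (disjoint_iff.mpr hbot) ?_
      rw [← Subgroup.normal_mul, sup_comm, hsup, Subgroup.coe_top]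

section Cert

variable {P : Pres} {C : Cert P} {hlt : ∀ w ∈ P.rels, ∀ x ∈ w, x < P.k}
  (hid : ∀ i < P.k, P.idx (P.gen i) = i) (hhw : ∀ w ∈ C.hw, ∀ x ∈ w, x < P.k)
  {t c : P.Grp} {cp : Fin C.T.n}

include hid hhw in
/-- The common centraliser of two transpositions, counted by an orbit of the point stabiliser. -/
theorem card_pair [Finite P.Grp] (hC : Subgroup.centralizer ({t} : Set P.Grp) = C.sub) (hc : C.IsPt hlt t c cp)
    {O : Tree} {roots : List ℕ} {gens : List (List ℕ)} (hgens : gens = C.hw.map List.reverse)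
    (hok : ∀ d < C.T.n, okOrb C.T C.D.k gens O roots d = true) {l m : ℕ} (hl : orbLab O (cp : ℕ) = l)
    (hm : countLab O l C.T.n = m) :
    Nat.card ↥(Subgroup.centralizer ({t} : Set P.Grp) ⊓ Subgroup.centralizer ({c} : Set P.Grp)) * m =
      Nat.card C.sub := by
  classical
  have hS := C.stabIsCent_of_centralizer hlt hid hhw hC
  let _act : MulAction C.sub (Fin C.T.n) :=
    MulAction.compHom (Fin C.T.n) ((C.hom hlt).comp C.sub.subtype)
  have horb : MulAction.orbit C.sub cp = {d : Fin C.T.n | orbLab O (d : ℕ) = l} := by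
    ext d
    constructor
    · rintro ⟨g, rfl⟩
      exact (C.lab_invariant hlt hid hhw O roots gens hgens hok g g.2 cp).trans hl
    · intro hd
      obtain ⟨u, hu, p, hp, hup⟩ := C.exists_root hlt hid hhw O roots gens hgens hok d
      obtain ⟨v, hv, p', hp', hvp⟩ := C.exists_root hlt hid hhw O roots gens hgens hok cp
      obtain rfl : p = p' := Fin.ext (by rw [hp, hp', hl]; exact congrArg (fun a => roots.getD a 0) hd)
      refine ⟨⟨u * v⁻¹, mul_mem hu (inv_mem hv)⟩, ?_⟩
      show C.hom hlt (u * v⁻¹) cp = d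
      rw [← hvp, ← Equiv.Perm.mul_apply, ← map_mul, inv_mul_cancel_right, hup]
  have hst : (MulAction.stabilizer C.sub cp).map C.sub.subtype =
      Subgroup.centralizer ({t} : Set P.Grp) ⊓ Subgroup.centralizer ({c} : Set P.Grp) := by
    ext g
    constructor
    · rintro ⟨⟨g, hg⟩, hgs, rfl⟩
      refine ⟨(le_of_eq hC.symm) hg, Subgroup.mem_centralizer_singleton_iff.mpr ((C.isPt_fix hlt hS hc g).mp ?_)⟩
      exact hgs
    · rintro ⟨h1, h2⟩
      exact ⟨⟨g, hC ▸ h1⟩, (C.isPt_fix hlt hS hc g).mpr (Subgroup.mem_centralizer_singleton_iff.mp h2), rfl⟩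
  have hcard : (MulAction.orbit C.sub cp).ncard = m := by
    rw [horb, ← hm, countLab_eq, ← Set.ncard_image_of_injective _ Fin.val_injective, ← Set.ncard_coe_finset]
    congr 1
    ext d
    simp only [Set.mem_image, Set.mem_setOf_eq, Finset.coe_filter, Finset.mem_range]
    exact ⟨fun ⟨a, ha, e⟩ => ⟨e ▸ a.2, e ▸ ha⟩, fun ⟨hd, he⟩ => ⟨⟨d, hd⟩, he, rfl⟩⟩
  rw [← hst, Subgroup.card_map_of_injective C.sub.subtype_injective, ← hcard, ← MulAction.index_stabilizer,
    Subgroup.card_mul_index]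

end Cert

/-- A subgroup generated by common partners that is as large as the common centraliser. -/
theorem pair_closure {G : Type*} [Group G] [Finite G] {D : Set G} {t c : G} {K : Subgroup G}
    (hK : K ≤ Subgroup.closure (Ds D t ∩ Ds D c))
    (hcard : Nat.card ↥(Subgroup.centralizer ({t} : Set G) ⊓ Subgroup.centralizer ({c} : Set G)) ≤ Nat.card K) :
    Subgroup.closure (Ds D t ∩ Ds D c) = K := by
  have hle : Subgroup.closure (Ds D t ∩ Ds D c) ≤
      Subgroup.centralizer ({t} : Set G) ⊓ Subgroup.centralizer ({c} : Set G) :=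
    (Subgroup.closure_le _).mpr fun y hy => ⟨Subgroup.mem_centralizer_singleton_iff.mpr hy.1.2.2.symm.eq,
      Subgroup.mem_centralizer_singleton_iff.mpr hy.2.2.2.symm.eq⟩
  exact le_antisymm (hle.trans (Subgroup.eq_of_le_of_card_ge (hK.trans hle) hcard).ge) hK

/-- The common partners of a matched family generate the projective reflection group. -/
theorem pair_refl {P : Pres} [Finite P.Grp] {C : Cert P} {hlt : ∀ w ∈ P.rels, ∀ x ∈ w, x < P.k}
    (hid : ∀ i < P.k, P.idx (P.gen i) = i) {t c : P.Grp} {zf : ℕ → ℕ} {k cp : ℕ} {F : Fam} {V : Vecs} {n : ℕ}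
    {π : Equiv.Perm (Fin n)} {pf : ℕ → ℕ} (hπ : ∀ i, π (π i) = i) (hpf : ∀ i : Fin n, pf i = π i)
    (hk : k = P.k) (hS : C.StabIsCent hlt t) (hz : C.Realises hlt t zf) (hcp : cp < C.T.n)
    (hc : C.IsPt hlt t c ⟨cp, hcp⟩) (hrow : ∀ i < F.N, F.okRow C.T k zf i = true)
    (hgen : F.okGens C.T k zf cp = true) (hmem : allN F.N (V.okMem n pf F) = true)
    (hcov : allN (3 ^ n) (V.okCover n pf F) = true)
    (hcard : Nat.card ↥(Subgroup.centralizer ({t} : Set P.Grp) ⊓ Subgroup.centralizer ({c} : Set P.Grp)) ≤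
      Nat.card (↥(Cfsg.reflectionSubgroup (⇑(QR π)) 1) ⧸ Subgroup.center ↥(Cfsg.reflectionSubgroup (⇑(QR π)) 1))) :
    Nonempty (↥(Subgroup.closure (Ds (conjugatesOf t) t ∩ Ds (conjugatesOf t) c)) ⧸
        Subgroup.center ↥(Subgroup.closure (Ds (conjugatesOf t) t ∩ Ds (conjugatesOf t) c)) ≃*
      ↥(Cfsg.reflectionSubgroup (⇑(QR π)) 1) ⧸ Subgroup.center ↥(Cfsg.reflectionSubgroup (⇑(QR π)) 1)) := by
  obtain ⟨el, hinj, hmemD, -, hj⟩ := Fam.exists_members hid hk hS hz hcp hc hrow hgen
  have hpos : ∀ j < F.jw.length, F.pos j < F.N := fun j h => (hj j h).1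
  obtain ⟨hin, ⟨e⟩⟩ := Vecs.match_equiv hπ hpf el hinj hpos (fun j h i => (hj j h).2.2 i) hmem hcov
  set K := Subgroup.closure {x | ∃ (j : ℕ) (h : j < F.jw.length), x = el ⟨F.pos j, hpos j h⟩}
  have hK : K ≤ Subgroup.closure (Ds (conjugatesOf t) t ∩ Ds (conjugatesOf t) c) := by
    refine Subgroup.closure_mono ?_
    rintro _ ⟨j, h, rfl⟩
    obtain ⟨h1, h2, h3, h4⟩ := (hj j h).2.1
    exact ⟨⟨hmemD _, h1, h2⟩, hmemD _, h3, h4⟩
  rw [pair_closure hK (hcard.trans ((Nat.card_congr e.toEquiv).symm.le.trans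
    (Nat.card_le_card_of_surjective _ (QuotientGroup.mk'_surjective (Subgroup.center K)))))]
  exact ⟨e⟩

end CfsgThreeTrans.Exist
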