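/-
The discriminant of a sum of squares, and small facts about transposition centralisers.
-/
import Cfsg.Agent.Lib.ThreeTrans.Exist.Common

set_option autoImplicit false

namespace CfsgThreeTrans.Exist

open Cfsg Matrix QuadraticMap

theorem one_invol {n : ℕ} : ∀ i : Fin n, (1 : Equiv.Perm (Fin n)) ((1 : Equiv.Perm (Fin n)) i) = i := fun _ => rfl

theorem one_pf {n : ℕ} : ∀ i : Fin n, (fun k : ℕ => k) i = ((1 : Equiv.Perm (Fin n)) i : ℕ) := fun _ => rfl

theorem gram_one (n : ℕ) : polarGramDet (⇑(QR (1 : Equiv.Perm (Fin n)))) = (2 : K3) ^ n := by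
  unfold polarGramDet
  rw [show (Matrix.of fun i j : Fin n => polar (⇑(QR (1 : Equiv.Perm (Fin n)))) (Pi.single i 1) (Pi.single j 1)) =
    diagonal fun _ => (2 : K3) from ?_, det_diagonal]
  · simp
  ext i j
  rw [Matrix.of_apply, polar_QR one_invol, B, diagonal_apply]
  simp [Pi.single_apply]
  split_ifs <;> simp_all

/-- A partner is not central in the centraliser when the centre has order two. -/
theorem exists_moving {G : Type*} [Group G] [Finite G] {D : Set G} (h2 : ∀ d ∈ D, orderOf d = 2) {t x : G}
    (ht : t ∈ D) (hx : x ∈ Ds D t)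
    (hc : Nat.card (Subgroup.center ↥(Subgroup.centralizer ({t} : Set G))) = 2) :
    ∃ g ∈ Subgroup.centralizer ({t} : Set G), ¬ Commute g x := by
  classical
  by_contra hcon
  push_neg at hcon
  set H := Subgroup.centralizer ({t} : Set G)
  have hxH : x ∈ H := Subgroup.mem_centralizer_singleton_iff.mpr hx.2.2.symm.eq
  have htH : t ∈ H := Subgroup.mem_centralizer_singleton_iff.mpr rfl
  let a : Subgroup.center H := ⟨⟨t, htH⟩, Subgroup.mem_center_iff.mpr fun g =>
    Subtype.ext (Subgroup.mem_centralizer_singleton_iff.mp g.2)⟩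
  let b : Subgroup.center H := ⟨⟨x, hxH⟩, Subgroup.mem_center_iff.mpr fun g => Subtype.ext (hcon g g.2).eq⟩
  have ne1 : ∀ d ∈ D, d ≠ 1 := fun d hd e => by have := h2 d hd; rw [e, orderOf_one] at this; omega
  have hab : a ≠ b := fun e => hx.2.1 (congrArg (fun z : Subgroup.center H => (z.1 : G)) e).symm
  have ha : a ≠ 1 := fun e => ne1 t ht (congrArg (fun z : Subgroup.center H => (z.1 : G)) e)
  have hb : b ≠ 1 := fun e => ne1 x hx.1 (congrArg (fun z : Subgroup.center H => (z.1 : G)) e)
  haveI := Fintype.ofFinite (Subgroup.center H)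
  rw [Nat.card_eq_fintype_card] at hc
  have := Finset.card_le_univ ({1, a, b} : Finset (Subgroup.center H))
  rw [hc, Finset.card_insert_of_notMem (by simp [ha.symm, hb.symm]), Finset.card_pair hab] at this
  omega

/-- Equal subgroups have equal central quotients. -/
theorem quot_congr {G : Type*} [Group G] {H K : Subgroup G} (h : H = K) :
    Nonempty (↥H ⧸ Subgroup.center ↥H ≃* ↥K ⧸ Subgroup.center ↥K) := by
  subst h
  exact ⟨MulEquiv.refl _⟩

/-- A simple group with two noncommuting elements has trivial centre. -/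
theorem center_bot_of_simple {G : Type*} [Group G] [IsSimpleGroup G] {a b : G} (h : ¬ Commute a b) :
    Subgroup.center G = ⊥ := by
  rcases IsSimpleGroup.eq_bot_or_eq_top_of_normal (Subgroup.center G) inferInstance with e | e
  · exact e
  · exact absurd (Subgroup.mem_center_iff.mp (e ▸ Subgroup.mem_top b : b ∈ Subgroup.center G) a) h

end CfsgThreeTrans.Exist
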