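/-
The presented Fischer group Fi22 is of type M(22).
-/
import Cfsg.Agent.Lib.ThreeTrans.Exist.Gram
import Cfsg.Agent.Lib.ThreeTrans.Exist.Check22
import Cfsg.Agent.Lib.CosetEnum.Fi22Class.U62
import Cfsg.Agent.Lib.ThreeTrans.M22.ReflSix

set_option autoImplicit false

namespace CfsgThreeTrans.Exist

open Cfsg CfsgLib.CosetEnum CfsgLib

/-- The second transposition. -/
noncomputable def c22 : presFi22.Grp :=
  (cw22.map presFi22.σ).prod * Fi22Class.ta * ((cw22.map presFi22.σ).prod)⁻¹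

theorem finite22 : Finite presFi22.Grp := Cfsg.Agent.S1696.upper.1

theorem stab22 : Fi3510.cert.StabIsCent Fi3510.hlt Fi22Class.ta :=
  haveI := finite22
  Fi3510.cert.stabIsCent_of_centralizer Fi3510.hlt Fi22Class.hid Fi3510.hhw Fi22Class.facts.1

theorem real22 : Fi3510.cert.Realises Fi3510.hlt Fi22Class.ta Fi22Class.zf := Fi22Class.hom_ta

theorem pt22 : Fi3510.cert.IsPt Fi3510.hlt Fi22Class.ta c22 ⟨cp22, cpt22.2.2.1⟩ :=
  Fi3510.cert.isPt_word Fi3510.hlt Fi22Class.hid cw22 cpt22.2.1 _ cpt22.1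

theorem noncomm22 : ¬ Commute Fi22Class.ta c22 := fun h =>
  cpt22.2.2.2.1 ((real22 ⟨cp22, cpt22.2.2.1⟩).symm.trans
    (congrArg Fin.val ((Fi3510.cert.isPt_fix Fi3510.hlt stab22 pt22 Fi22Class.ta).mpr h.eq)))

/-- The presented Fi22 is of type M(22). -/
theorem type22_pres : IsOfTypeM22 presFi22.Grp (conjugatesOf Fi22Class.ta) := by
  classical
  haveI := finite22
  haveI : IsSimpleGroup presFi22.Grp := Cfsg.Agent.S1696.result.1
  obtain ⟨hcent, hcls, -⟩ := Fi22Class.facts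
  obtain ⟨K, iK, iK', hK, hdc⟩ := Fi22Class.double_cover
  rw [← hcent] at hdc
  obtain ⟨el, hinj, hmemD, -, hj⟩ := Fam.exists_members Fi22Class.hid (k := 9) rfl stab22 real22 cpt22.2.2.1
    (c := c22) pt22 rows22 gens22
  have h0 := (hj 0 (by decide)).2.1
  haveI : IsSimpleGroup (PSU 6 K 2) := UnitarySimple.simple (F := K) (q := 2)
    (hK.trans (by norm_num)) (by norm_num) (by norm_num)
  have hH := closure_partners (D := conjugatesOf Fi22Class.ta) (fun g d hd => by
      obtain ⟨u, rfl⟩ := isConj_iff.mp hd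
      exact isConj_iff.mpr ⟨g * u, by group⟩) hdc ⟨hmemD _, h0.1, h0.2.1⟩
    (exists_moving hcls.1.1 mem_conjugatesOf_self ⟨hmemD _, h0.1, h0.2.1⟩ hdc.1)
  refine ⟨center_bot_of_simple noncomm22, _, mem_conjugatesOf_self, c22, Fi3510.cert.isPt_mem Fi3510.hlt pt22,
    noncomm22, ⟨K, iK, iK', hK, ?_⟩, 1, one_ne_zero, QR 1, QR_nondeg one_invol, ?_, ?_⟩
  · obtain ⟨a⟩ := quot_congr hH
    obtain ⟨b⟩ := hdc.2.1
    exact ⟨a.trans b⟩
  · rw [gram_one]; rfl
  · refine pair_refl Fi22Class.hid one_invol one_pf (k := 9) rfl stab22 real22 cpt22.2.2.1 pt22 rows22 gens22 mem22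
      cover22 ?_
    have hp := card_pair Fi22Class.hid Fi3510.hhw hcent pt22 (O := Fi3510.orb) (roots := Fi3510.roots)
      (gens := Fi3510.hwR) (by decide +kernel) Fi3510.orbs (l := 1) cpt22.2.2.2.2
      (m := 2816) Fi3510.count1
    obtain ⟨e, -⟩ := Fi3510.cert.exists_equiv Fi3510.hlt Fi22Class.hid Fi3510.hhw
    have hsub := Fi3510.cert.sub.card_mul_index
    rw [index_eq_of_equiv e, show Nat.card presFi22.Grp = 64561751654400 from Cfsg.Agent.S1696.result.2,
      ← hp, show Fi3510.cert.T.n = 3510 from rfl] at hsub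
    have h := CfsgThreeTrans.M22.ReflSix.card_proj (QR (1 : Equiv.Perm (Fin 6))) (by rw [gram_one]; rfl)
      (QR_nondeg one_invol) (c := 1) one_ne_zero
    refine le_trans ?_ h
    omega

end CfsgThreeTrans.Exist
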