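/-
The types M(22) and M(23) are invariant under isomorphisms.
-/
import Cfsg.Agent.Lib.ThreeTrans.Classes
import Cfsg.Prelude.Def_FischerSpaces

set_option autoImplicit false

namespace CfsgThreeTrans.Exist

open Cfsg

universe u v

variable {G : Type u} {G' : Type v} [Group G] [Group G'] (f : G ≃* G') {D : Set G} {D' : Set G'} (hD : f '' D = D')

include hD in
theorem image_Ds (d : G) : f '' Ds D d = Ds D' (f d) := by
  ext y
  constructor
  · rintro ⟨x, ⟨hx, hne, hc⟩, rfl⟩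
    exact ⟨hD ▸ ⟨x, hx, rfl⟩, fun e => hne (f.injective e), hc.map f⟩
  · rintro ⟨hy, hne, hc⟩
    rw [← hD] at hy
    obtain ⟨x, hx, rfl⟩ := hy
    refine ⟨x, ⟨hx, fun e => hne (congrArg f e), ?_⟩, rfl⟩
    have := hc.map f.symm
    simpa using this

/-- An isomorphism restricted to generated subgroups, modulo centres. -/
theorem closure_center_equiv {X : Set G} {Y : Set G'} (h : f '' X = Y) :
    ∃ e : ↥(Subgroup.closure X) ⧸ Subgroup.center ↥(Subgroup.closure X) ≃*
        ↥(Subgroup.closure Y) ⧸ Subgroup.center ↥(Subgroup.closure Y),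
      e '' (QuotientGroup.mk '' {x : ↥(Subgroup.closure X) | (x : G) ∈ X}) =
        QuotientGroup.mk '' {y : ↥(Subgroup.closure Y) | (y : G') ∈ Y} := by
  have hmap : (Subgroup.closure X).map f.toMonoidHom = Subgroup.closure Y := by
    rw [MonoidHom.map_closure]; exact congrArg Subgroup.closure h
  let r : ↥(Subgroup.closure X) ≃* ↥(Subgroup.closure Y) :=
    ((Subgroup.closure X).equivMapOfInjective f.toMonoidHom f.injective).trans (MulEquiv.subgroupCongr hmap)
  have hr : ∀ x, (r x : G') = f x := fun x => rfl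
  have hc : (Subgroup.center ↥(Subgroup.closure X)).map r.toMonoidHom = Subgroup.center ↥(Subgroup.closure Y) := by
    ext y
    constructor
    · rintro ⟨x, hx, rfl⟩
      refine Subgroup.mem_center_iff.mpr fun g => ?_
      obtain ⟨g, rfl⟩ := r.surjective g
      show r g * r x = r x * r g
      rw [← map_mul, ← map_mul, Subgroup.mem_center_iff.mp hx g]
    · intro hy
      refine ⟨r.symm y, Subgroup.mem_center_iff.mpr fun g => r.injective ?_, r.apply_symm_apply y⟩
      rw [map_mul, map_mul, r.apply_symm_apply, Subgroup.mem_center_iff.mp hy]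
  refine ⟨QuotientGroup.congr _ _ r hc, ?_⟩
  have hset : r '' {x : ↥(Subgroup.closure X) | (x : G) ∈ X} = {y : ↥(Subgroup.closure Y) | (y : G') ∈ Y} := by
    ext y
    constructor
    · rintro ⟨x, hx, rfl⟩
      show (r x : G') ∈ Y
      rw [hr, ← h]; exact ⟨x, hx, rfl⟩
    · intro hy
      obtain ⟨x, hx, hxy⟩ := (h.symm ▸ hy : (y : G') ∈ f '' X)
      exact ⟨⟨x, Subgroup.subset_closure hx⟩, hx, Subtype.ext hxy⟩
  rw [← hset, ← Set.image_comp, ← Set.image_comp]
  rfl

include f in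
theorem center_bot (h : Subgroup.center G = ⊥) : Subgroup.center G' = ⊥ := by
  refine (Subgroup.eq_bot_iff_forall _).mpr fun x hx => ?_
  have : f.symm x ∈ Subgroup.center G := Subgroup.mem_center_iff.mpr fun g => f.injective (by
    rw [map_mul, map_mul, f.apply_symm_apply, Subgroup.mem_center_iff.mp hx])
  rw [h, Subgroup.mem_bot] at this
  rw [← f.apply_symm_apply x, this, map_one]

include hD in
theorem pair_equiv (d c : G) :
    Nonempty (↥(Subgroup.closure (Ds D' (f d) ∩ Ds D' (f c))) ⧸ Subgroup.center ↥(Subgroup.closure (Ds D' (f d) ∩ Ds D' (f c))) ≃*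
      ↥(Subgroup.closure (Ds D d ∩ Ds D c)) ⧸ Subgroup.center ↥(Subgroup.closure (Ds D d ∩ Ds D c))) := by
  obtain ⟨e, -⟩ := closure_center_equiv f (X := Ds D d ∩ Ds D c) (Y := Ds D' (f d) ∩ Ds D' (f c))
    (by rw [Set.image_inter f.injective, image_Ds f hD, image_Ds f hD])
  exact ⟨e.symm⟩

include hD in
theorem type22 (h : IsOfTypeM22 G D) : IsOfTypeM22 G' D' := by
  obtain ⟨hZ, d, hd, c, hc, hn, ⟨F, iF, iF', hF, ⟨e1⟩⟩, c₃, hc₃, Q, hQn, hQ, ⟨e2⟩⟩ := h
  obtain ⟨a, -⟩ := closure_center_equiv f (image_Ds f hD d)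
  obtain ⟨b⟩ := pair_equiv f hD d c
  refine ⟨center_bot f hZ, f d, hD ▸ ⟨d, hd, rfl⟩, f c, hD ▸ ⟨c, hc, rfl⟩,
    fun q => hn (by simpa using q.map f.symm), ⟨F, iF, iF', hF, ⟨a.symm.trans e1⟩⟩, c₃, hc₃, Q, hQn, hQ, ⟨b.trans e2⟩⟩

include hD in
theorem type23 (h : IsOfTypeM23 G D) : IsOfTypeM23 G' D' := by
  obtain ⟨hZ, d, hd, c, hc, hn, h22, c₃, hc₃, Q, hQn, hQ, ⟨e2⟩⟩ := h
  obtain ⟨a, ha⟩ := closure_center_equiv f (image_Ds f hD d)
  obtain ⟨b⟩ := pair_equiv f hD d c
  exact ⟨center_bot f hZ, f d, hD ▸ ⟨d, hd, rfl⟩, f c, hD ▸ ⟨c, hc, rfl⟩,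
    fun q => hn (by simpa using q.map f.symm), type22 a ha h22, c₃, hc₃, Q, hQn, hQ, ⟨b.trans e2⟩⟩

end CfsgThreeTrans.Exist
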