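/-
Kernel checks of the data of common partners.
-/
import Cfsg.Agent.Lib.ThreeTrans.Exist.Data23
import Cfsg.Agent.Lib.CosetEnum.Fi23Class.Main

set_option autoImplicit false
set_option Elab.async false
set_option maxRecDepth 1000000

namespace CfsgThreeTrans.Exist

open CfsgLib.CosetEnum

theorem rows23 : ∀ i < fam23.N, fam23.okRow Fi31671.table 10 Fi23Class.zf i = true := by
  have h : fam23.okRows Fi31671.table 10 Fi23Class.zf 0 351 = true := by decide +kernel
  exact Fam.okRows_sound h fun i hi => absurd hi (Nat.not_lt_zero i)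

theorem gens23 : fam23.okGens Fi31671.table 10 Fi23Class.zf cp23 = true := by decide +kernel

theorem mem23 : allN fam23.N (vecs23.okMem 7 (fun k => k) fam23) = true := by decide +kernel

theorem cover23 : allN (3 ^ 7) (vecs23.okCover 7 (fun k => k) fam23) = true := by decide +kernel

theorem cpt23 : runT Fi31671.table 10 cw23.reverse 0 = cp23 ∧ (∀ x ∈ cw23, x < 10) ∧ cp23 < 31671 ∧
    Fi23Class.zf cp23 ≠ cp23 ∧ orbLab Fi31671.orb cp23 = 1 := by decide +kernel

end CfsgThreeTrans.Exist
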