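/-
The seventh generator of Fi23 and the central transposition of the point stabiliser have a product of order three.
-/
import Cfsg.Agent.Lib.CosetEnum.Fi23Class.Main

set_option autoImplicit false
set_option Elab.async false
set_option maxRecDepth 1000000

namespace CfsgThreeTrans.Exist

open CfsgLib.CosetEnum

/-- The cube check at one point. -/
noncomputable def okCube (d : ℕ) : Bool :=
  force (Fi31671.table.act (nat_lit 10) d (nat_lit 7)) fun a => force (Fi23Class.zf a) fun a =>
  force (Fi31671.table.act (nat_lit 10) a (nat_lit 7)) fun a => force (Fi23Class.zf a) fun a =>
  force (Fi31671.table.act (nat_lit 10) a (nat_lit 7)) fun a => Nat.beq (Fi23Class.zf a) d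

theorem cube_ok : allN 31671 (fun d => force d okCube) = true := by decide +kernel

end CfsgThreeTrans.Exist
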