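/-
The presented Fischer group Fi23 is of type M(23).
-/
import Cfsg.Agent.Lib.ThreeTrans.Exist.Type22
import Cfsg.Agent.Lib.ThreeTrans.Exist.Transport
import Cfsg.Agent.Lib.ThreeTrans.Exist.Check23
import Cfsg.Agent.Lib.ThreeTrans.Exist.Check23c
import Cfsg.Agent.Lib.CosetEnum.Fi23Class.Double
import Cfsg.Agent.Lib.ThreeTrans.M22.ReflSeven

set_option autoImplicit false
set_option maxRecDepth 1000000

namespace CfsgThreeTrans.Exist

open Cfsg CfsgLib.CosetEnum

/-- The second transposition. -/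
noncomputable def c23 : presFi23.Grp :=
  (cw23.map presFi23.σ).prod * Fi23Class.tp * ((cw23.map presFi23.σ).prod)⁻¹

theorem finite23 : Finite presFi23.Grp := Cfsg.Agent.S1697.upper.1

theorem stab23 : Fi31671.cert.StabIsCent Fi31671.hlt Fi23Class.tp :=
  haveI := finite23
  Fi31671.cert.stabIsCent_of_centralizer Fi31671.hlt Fi23Class.hid Fi31671.hhw Fi23Class.facts.1

theorem real23 : Fi31671.cert.Realises Fi31671.hlt Fi23Class.tp Fi23Class.zf := fun d =>
  (Fi31671.cert.hom_word_run' Fi31671.hlt Fi23Class.hid Fi23Class.zw (by decide +kernel) d).trans (Fi23Class.zf_spec d d.2)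

theorem pt23 : Fi31671.cert.IsPt Fi31671.hlt Fi23Class.tp c23 ⟨cp23, cpt23.2.2.1⟩ :=
  Fi31671.cert.isPt_word Fi31671.hlt Fi23Class.hid cw23 cpt23.2.1 _ cpt23.1

theorem noncomm23 : ¬ Commute Fi23Class.tp c23 := fun h =>
  cpt23.2.2.2.1 ((real23 ⟨cp23, cpt23.2.2.1⟩).symm.trans
    (congrArg Fin.val ((Fi31671.cert.isPt_fix Fi31671.hlt stab23 pt23 Fi23Class.tp).mpr h.eq)))

theorem conj_of_cube {G : Type*} [Group G] {a b : G} (ha : a * a = 1) (hb : b * b = 1) (h : (a * b) ^ 3 = 1) :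
    IsConj a b := by
  refine isConj_iff.mpr ⟨a * b, ?_⟩
  have hai : a⁻¹ = a := inv_eq_of_mul_eq_one_right ha
  have hbi : b⁻¹ = b := inv_eq_of_mul_eq_one_right hb
  have h6 : a * b * (a * b) * (a * b) = 1 := by rw [← h, pow_succ, pow_two]
  calc a * b * a * (a * b)⁻¹ = a * b * a * (b * a) := by rw [mul_inv_rev, hai, hbi]
    _ = a * b * (a * b) * (a * b) * b := by simp only [mul_assoc, hb, mul_one]
    _ = b := by rw [h6, one_mul]

theorem sigma7_mem : presFi23.σ 7 ∈ conjugatesOf Fi23Class.tp := by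
  haveI := finite23
  have htt : Fi23Class.tp * Fi23Class.tp = 1 := by
    have := Fi23Class.facts.2.1.1.1 _ (mem_conjugatesOf_self (a := Fi23Class.tp))
    rw [← pow_two]
    exact (orderOf_eq_prime_iff.mp this).1
  refine conj_of_cube htt (presFi23.σ_sq 7) (Fi23Class.hinj (Equiv.ext fun d => Fin.ext ?_))
  rw [map_one, Equiv.Perm.one_apply, pow_succ, pow_succ, pow_one]
  simp only [map_mul, Equiv.Perm.mul_apply]
  have h7 : ∀ e : Fin Fi31671.cert.T.n,
      (Fi31671.cert.hom Fi31671.hlt (presFi23.σ 7) e : ℕ) = Fi31671.table.act 10 e 7 :=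
    fun e => Fi31671.cert.hom_act Fi31671.hlt Fi23Class.hid (show 7 < 10 by decide) e
  rw [real23, h7, real23, h7, real23, h7]
  have h := allN_spec cube_ok d d.2
  simp only [force_eq, okCube] at h
  exact Nat.eq_of_beq_eq_true h

theorem sigma0_mem : presFi23.σ 0 ∈ Ds (conjugatesOf Fi23Class.tp) Fi23Class.tp := by
  haveI := finite23
  have hb : ∀ e ∈ [(7, 6), (6, 5), (5, 4), (4, 3), (3, 2), (2, 1), (1, 0)],
      coxWord e.1 e.2 3 ∈ presFi23.rels ∨ coxWord e.2 e.1 3 ∈ presFi23.rels := by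
    rw [Fi31671.rels_eq]; decide +kernel
  have q : ∀ a b, (a, b) ∈ [(7, 6), (6, 5), (5, 4), (4, 3), (3, 2), (2, 1), (1, 0)] →
      presFi23.σ a ∈ conjugatesOf Fi23Class.tp → presFi23.σ b ∈ conjugatesOf Fi23Class.tp := by
    intro a b hab h
    refine IsConj.trans h ?_
    rcases hb (a, b) hab with h1 | h1
    · exact conj_of_cube (presFi23.σ_sq a) (presFi23.σ_sq b) (by rw [← prod_coxWord, presFi23.rels_one h1])
    · exact (conj_of_cube (presFi23.σ_sq b) (presFi23.σ_sq a) (by rw [← prod_coxWord, presFi23.rels_one h1])).symm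
  have h0 := q 1 0 (by decide) (q 2 1 (by decide) (q 3 2 (by decide) (q 4 3 (by decide) (q 5 4 (by decide)
    (q 6 5 (by decide) (q 7 6 (by decide) sigma7_mem))))))
  have hmem : presFi23.σ 0 ∈ Fi31671.cert.sub := Subgroup.subset_closure ⟨[0], by decide, by simp⟩
  rw [← Fi23Class.facts.1, Subgroup.mem_centralizer_singleton_iff] at hmem
  refine ⟨h0, fun e => ?_, hmem.symm⟩
  have h1 := congrArg (fun g => (Fi31671.cert.hom Fi31671.hlt g ⟨1, by decide⟩ : ℕ)) e
  rw [Fi31671.cert.hom_act Fi31671.hlt Fi23Class.hid (show 0 < 10 by decide), real23] at h1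
  exact absurd h1 (Nat.ne_of_beq_eq_false (by decide +kernel))

/-- The partners form one class of the centraliser. -/
theorem near_one_class [Finite presFi23.Grp] {x y : presFi23.Grp}
    (hx : x ∈ Ds (conjugatesOf Fi23Class.tp) Fi23Class.tp) (hy : y ∈ Ds (conjugatesOf Fi23Class.tp) Fi23Class.tp) :
    ∃ h ∈ Fi31671.cert.sub, h * x * h⁻¹ = y := by
  have key : ∀ z ∈ Ds (conjugatesOf Fi23Class.tp) Fi23Class.tp, ∃ h ∈ Fi31671.cert.sub,
      ∀ w, Fi31671.cert.IsPt Fi31671.hlt Fi23Class.tp w ⟨52, by decide⟩ → h * w * h⁻¹ = z := by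
    intro z hz
    obtain ⟨q, hq⟩ := Fi31671.cert.isPt_of_mem Fi31671.hlt hz.1
    obtain ⟨h, hh, p, hp, hhp⟩ := Fi31671.cert.exists_root Fi31671.hlt Fi23Class.hid Fi31671.hhw Fi31671.orb
      Fi31671.roots Fi31671.hwR (by decide +kernel) Fi31671.orbs q
    have hfix : Fi31671.cert.hom Fi31671.hlt Fi23Class.tp q = q :=
      (Fi31671.cert.isPt_fix Fi31671.hlt stab23 hq _).mpr hz.2.2.eq
    have hh' := hh
    rw [← Fi23Class.facts.1, Subgroup.mem_centralizer_singleton_iff] at hh'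
    have hpfix : Fi31671.cert.hom Fi31671.hlt Fi23Class.tp p = p := by
      refine (Fi31671.cert.hom Fi31671.hlt h).injective ?_
      rw [hhp, ← Equiv.Perm.mul_apply, ← map_mul, hh', map_mul, Equiv.Perm.mul_apply, hhp, hfix]
    have hval : (p : ℕ) = 0 ∨ (p : ℕ) = 52 := by
      have hz' : Fi23Class.zf (p : ℕ) = p := (real23 p).symm.trans (congrArg Fin.val hpfix)
      have hcases : ∀ l < 16, (fun r => r = 0 ∨ r = 52 ∨ Fi23Class.zf r ≠ r)
          (Fi31671.roots.getD l 0) := by decide +kernel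
      rcases hcases (orbLab Fi31671.orb q) (Nat.mod_lt _ (by norm_num)) with e | e | e
      · exact Or.inl (hp.trans e)
      · exact Or.inr (hp.trans e)
      · rw [← hp] at e; exact absurd hz' e
    rcases hval with e | e
    · exfalso
      apply hz.2.1
      have hpt := Fi31671.cert.isPt_conj Fi31671.hlt (Fi31671.cert.isPt_base Fi31671.hlt (t := Fi23Class.tp)) h
      rw [show (⟨0, Fi31671.cert.hn⟩ : Fin Fi31671.cert.T.n) = p from Fin.ext e.symm, hhp] at hpt
      rw [← Fi31671.cert.isPt_unique Fi31671.hlt stab23 hpt hq, hh', mul_inv_cancel_right]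
    · refine ⟨h, hh, fun w hw => ?_⟩
      have hpt := Fi31671.cert.isPt_conj Fi31671.hlt hw h
      rw [show (⟨52, by decide⟩ : Fin Fi31671.cert.T.n) = p from Fin.ext e.symm, hhp] at hpt
      exact Fi31671.cert.isPt_unique Fi31671.hlt stab23 hpt hq
  obtain ⟨a, ha, hax⟩ := key x hx
  obtain ⟨b, hb, hby⟩ := key y hy
  obtain ⟨g, hg⟩ := Fi31671.cert.exists_hom_zero Fi31671.hlt Fi23Class.hid ⟨52, by decide⟩
  have hw : Fi31671.cert.IsPt Fi31671.hlt Fi23Class.tp (g * Fi23Class.tp * g⁻¹) ⟨52, by decide⟩ := ⟨g, rfl, hg⟩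
  exact ⟨b * a⁻¹, mul_mem hb (inv_mem ha), by rw [← hax _ hw, ← hby _ hw]; group⟩

/-- The point stabiliser modulo its centre is Fi22, the partners going to the transpositions. -/
theorem quot23 [Finite presFi23.Grp] :
    ∃ e : presFi22.Grp ≃* ↥Fi31671.cert.sub ⧸ Subgroup.center ↥Fi31671.cert.sub,
      e '' conjugatesOf Fi22Class.ta = QuotientGroup.mk '' {x : ↥Fi31671.cert.sub |
        (x : presFi23.Grp) ∈ Ds (conjugatesOf Fi23Class.tp) Fi23Class.tp} := by
  haveI : IsSimpleGroup presFi22.Grp := Cfsg.Agent.S1696.result.1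
  obtain ⟨hc2, ⟨e0⟩, -⟩ := Fi23Class.double_cover
  let τ : ℕ → ↥Fi31671.cert.sub ⧸ Subgroup.center ↥Fi31671.cert.sub :=
    fun x => QuotientGroup.mk (Fi23Class.genH x)
  have hτ : ∀ x, τ x * τ x = 1 := fun x => by
    show QuotientGroup.mk _ * QuotientGroup.mk _ = 1
    rw [← QuotientGroup.mk_mul, Fi23Class.genH_sq]; rfl
  have hrel : ∀ w ∈ presFi22.rels, (w.map τ).prod = 1 := by
    intro w hw
    have e : (w.map τ).prod = QuotientGroup.mk' (Subgroup.center _) (w.map Fi23Class.genH).prod := by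
      rw [map_list_prod, List.map_map]; rfl
    rw [e, QuotientGroup.mk'_apply, QuotientGroup.eq_one_iff]
    rcases Fi23Class.emb_rels w hw with h | h
    · rw [show (w.map Fi23Class.genH).prod = 1 from
        Subtype.ext (by rw [Fi23Class.genH_prod, presFi23.rels_one h]; rfl)]
      exact one_mem _
    · rw [show (w.map Fi23Class.genH).prod = Fi23Class.th from
        Subtype.ext (by rw [Fi23Class.genH_prod, h, Fi23Class.th_val]; rfl)]
      exact Fi23Class.th_center
  let φ : presFi22.Grp →* ↥Fi31671.cert.sub ⧸ Subgroup.center ↥Fi31671.cert.sub :=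
    PresentedGroup.toGroup (f := τ ∘ presFi22.idx) (presFi22.lift_rel hτ hrel)
  have hφ : ∀ x, x < 9 → φ (presFi22.σ x) = τ x := fun x hx => by
    rw [Pres.σ, if_pos hx]
    refine (PresentedGroup.toGroup.of _).trans ?_
    show τ (presFi22.idx (presFi22.gen x)) = τ x
    rw [Fi22Class.hid x hx]
  have hsurj : Function.Surjective φ := by
    rw [← MonoidHom.range_eq_top, eq_top_iff, ← Subgroup.map_top_of_surjective (QuotientGroup.mk' _)
      (QuotientGroup.mk'_surjective _), ← Fi23Class.genH_top, MonoidHom.map_closure, Subgroup.closure_le]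
    rintro _ ⟨_, ⟨x, hx, rfl⟩, rfl⟩
    exact ⟨presFi22.σ x, hφ x hx⟩
  have hbij : Function.Bijective φ := by
    refine ⟨(MonoidHom.ker_eq_bot_iff φ).mp ((IsSimpleGroup.eq_bot_or_eq_top_of_normal φ.ker inferInstance).resolve_right
      fun h => ?_), hsurj⟩
    haveI : Nontrivial (↥Fi31671.cert.sub ⧸ Subgroup.center ↥Fi31671.cert.sub) := e0.toEquiv.nontrivial
    obtain ⟨a, ha⟩ := exists_ne (1 : ↥Fi31671.cert.sub ⧸ Subgroup.center ↥Fi31671.cert.sub)
    obtain ⟨g, rfl⟩ := hsurj a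
    exact ha (MonoidHom.mem_ker.mp (h ▸ Subgroup.mem_top g))
  have hta : φ Fi22Class.ta = QuotientGroup.mk (Fi23Class.genH 0) := by
    show φ ((([0] : List ℕ).map presFi22.σ).prod) = _
    rw [List.map_singleton, List.prod_singleton, hφ 0 (by norm_num)]
  have h0 : (Fi23Class.genH 0 : presFi23.Grp) ∈ Ds (conjugatesOf Fi23Class.tp) Fi23Class.tp := sigma0_mem
  refine ⟨MulEquiv.ofBijective φ hbij, ?_⟩
  ext y
  constructor
  · rintro ⟨d, hd, rfl⟩
    obtain ⟨u, rfl⟩ := isConj_iff.mp hd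
    obtain ⟨v, hv⟩ := QuotientGroup.mk_surjective (φ u)
    refine ⟨v * Fi23Class.genH 0 * v⁻¹, ?_, ?_⟩
    · have hv' := Subgroup.mem_centralizer_singleton_iff.mp ((le_of_eq Fi23Class.facts.1.symm) v.2)
      obtain ⟨h1, h2, h3⟩ := h0
      have hvt : (v : presFi23.Grp) * Fi23Class.tp * (v : presFi23.Grp)⁻¹ = Fi23Class.tp := by
        rw [hv', mul_inv_cancel_right]
      refine ⟨?_, fun e => h2 ?_, ?_⟩
      · obtain ⟨w, hw⟩ := isConj_iff.mp h1
        exact isConj_iff.mpr ⟨v * w, by rw [Subgroup.coe_mul, Subgroup.coe_mul, Subgroup.coe_inv, ← hw]; group⟩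
      · rw [Subgroup.coe_mul, Subgroup.coe_mul, Subgroup.coe_inv] at e
        exact mul_left_cancel (mul_right_cancel (e.trans hvt.symm))
      · have := h3.map (MulAut.conj (v : presFi23.Grp))
        rw [MulAut.conj_apply, MulAut.conj_apply, hvt] at this
        exact this
    · show _ = φ (u * Fi22Class.ta * u⁻¹)
      rw [map_mul, map_mul, map_inv, hta, ← hv]
      rfl
  · rintro ⟨x, hx, rfl⟩
    obtain ⟨h, hh, he⟩ := near_one_class h0 hx
    obtain ⟨u, hu⟩ := hsurj (QuotientGroup.mk (⟨h, hh⟩ : ↥Fi31671.cert.sub))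
    refine ⟨u * Fi22Class.ta * u⁻¹, isConj_iff.mpr ⟨u, rfl⟩, ?_⟩
    show φ (u * Fi22Class.ta * u⁻¹) = _
    rw [map_mul, map_mul, map_inv, hta, hu, show x = ⟨h, hh⟩ * Fi23Class.genH 0 * (⟨h, hh⟩ : ↥Fi31671.cert.sub)⁻¹
      from Subtype.ext he.symm]
    rfl

/-- The presented Fi23 is of type M(23). -/
theorem type23_pres : IsOfTypeM23 presFi23.Grp (conjugatesOf Fi23Class.tp) := by
  classical
  haveI := finite23
  haveI : IsSimpleGroup presFi23.Grp := Cfsg.Agent.S1697.result.1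
  haveI : IsSimpleGroup Cfsg.Spor.Fi22 := Cfsg.Agent.S1696.result.1
  obtain ⟨hcent, hcls, -⟩ := Fi23Class.facts
  have hdc := Fi23Class.double_cover
  rw [← hcent] at hdc
  have hH := closure_partners (D := conjugatesOf Fi23Class.tp) (fun g d hd => by
      obtain ⟨u, rfl⟩ := isConj_iff.mp hd
      exact isConj_iff.mpr ⟨g * u, by group⟩) hdc sigma0_mem
    (exists_moving hcls.1.1 mem_conjugatesOf_self sigma0_mem hdc.1)
  refine ⟨center_bot_of_simple noncomm23, _, mem_conjugatesOf_self, c23, Fi31671.cert.isPt_mem Fi31671.hlt pt23,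
    noncomm23, ?_, 1, one_ne_zero, QR 1, QR_nondeg one_invol, ?_, ?_⟩
  · obtain ⟨e, he⟩ := quot23
    have key : ∀ H : Subgroup presFi23.Grp, H = Fi31671.cert.sub →
        IsOfTypeM22 (↥H ⧸ Subgroup.center ↥H) (QuotientGroup.mk '' {x : ↥H |
          (x : presFi23.Grp) ∈ Ds (conjugatesOf Fi23Class.tp) Fi23Class.tp}) := by
      rintro H rfl
      exact type22 e he type22_pres
    exact key _ (hH.trans hcent)
  · rw [gram_one]; rfl
  · refine pair_refl Fi23Class.hid one_invol one_pf (k := 10) rfl stab23 real23 cpt23.2.2.1 pt23 rows23 gens23 mem23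
      cover23 ?_
    have hcount : countLab Fi31671.orb 1 31671 = 28160 := by decide +kernel
    have hp := card_pair Fi23Class.hid Fi31671.hhw hcent pt23 (O := Fi31671.orb) (roots := Fi31671.roots)
      (gens := Fi31671.hwR) (by decide +kernel) Fi31671.orbs (l := 1) cpt23.2.2.2.2 (m := 28160) hcount
    obtain ⟨e, -⟩ := Fi31671.cert.exists_equiv Fi31671.hlt Fi23Class.hid Fi31671.hhw
    have hsub := Fi31671.cert.sub.card_mul_index
    rw [index_eq_of_equiv e, show Nat.card presFi23.Grp = 4089470473293004800 from Cfsg.Agent.S1697.result.2,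
      ← hp, show Fi31671.cert.T.n = 31671 from rfl] at hsub
    rw [(CfsgThreeTrans.M22.ReflSeven.proj_omega (QR (1 : Equiv.Perm (Fin 7))) (c := 1) (by rw [gram_one]; rfl)
      one_ne_zero (QR_nondeg one_invol)).2]
    omega

end CfsgThreeTrans.Exist
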