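/-
The three classes of common partners and the position of the small family inside the large one.
-/
import Cfsg.Agent.Lib.ThreeTrans.Exist.Data24
import Cfsg.Agent.Lib.CosetEnum.Rows
import Cfsg.Agent.Lib.CosetEnum.Sound
import Cfsg.Agent.Lib.CosetEnum.Fi24Table.Out.Fun

set_option autoImplicit false
set_option Elab.async false
set_option maxRecDepth 1000000

namespace CfsgThreeTrans.Exist

open CfsgLib.CosetEnum

/-- The class of a member. -/
noncomputable def cl24 (i : ℕ) : ℕ := entry cls24 (nat_lit 16) (nat_lit 4) i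

/-- The checks of the classes at one member. -/
noncomputable def okCls (i : ℕ) : Bool :=
  force (cl24 i) fun a => Nat.blt a (nat_lit 3) && allN fam24.jw.length fun j =>
    force (fam24.mv j i) fun i' => force (cl24 (fam24.pos j)) fun b =>
      Nat.beq (cl24 i') (Nat.mod (Nat.mul (nat_lit 2) (Nat.add a b)) (nat_lit 3))

theorem cls_ok : allN fam24.N (fun i => force i okCls) = true := by decide +kernel

theorem nested : fam24.jw.length = fam24a.jw.length + 1 ∧
    ∀ j < fam24a.jw.length, cl24 (fam24.pos j) = 0 ∧ fam24.pt (fam24.pos j) = fam24a.pt (fam24a.pos j) := by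
  decide +kernel

theorem three_classes : cl24 (fam24.pos fam24a.jw.length) ≠ 0 ∧
    ∃ i < fam24.N, cl24 i ≠ 0 ∧ cl24 i ≠ cl24 (fam24.pos fam24a.jw.length) := by
  refine ⟨by decide +kernel, ?_⟩
  exact ⟨1082, by decide +kernel, by decide +kernel, by decide +kernel⟩

theorem near_ne : ∀ x < 12, 2 ≤ x → ∃ d ∈ [1, 2, 4, 6, 9, 12, 17, 24, 36, 54, 84, 130],
    Fi24Table.table.act 12 d x ≠ Fi24Table.table.act 12 d 0 := by decide +kernel

end CfsgThreeTrans.Exist
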