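/-
The centraliser of the base transposition of Fi24 modulo its centre, with the partners.
-/
import Cfsg.Agent.Lib.ThreeTrans.Exist.Type23
import Cfsg.Agent.Lib.ThreeTrans.Exist.Check24c
import Cfsg.Agent.Lib.ThreeTrans.M22.InvolClasses
import Cfsg.Agent.Lib.CosetEnum.Fi24Table.Out.Base

set_option autoImplicit false
set_option maxRecDepth 1000000

namespace CfsgThreeTrans.Exist

open Cfsg CfsgLib.CosetEnum CfsgLib.CosetEnum.Fi24Table

local notation "P4" => presFi24.Grp
local notation "σ4" => presFi24.σ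

theorem finite24 : Finite P4 :=
  Nat.finite_of_card_ne_zero (by rw [card_grp]; norm_num)

theorem sub_range : ∀ x ∈ [2, 3, 4, 5, 6, 7, 8, 9, 10, 11], x ∈ [0, 2, 3, 4, 5, 6, 7, 8, 9, 10, 11] ∧ 2 ≤ x ∧ x < 12 := by
  decide

theorem gen_near {x : ℕ} (hx : x ∈ [2, 3, 4, 5, 6, 7, 8, 9, 10, 11]) : σ4 x ∈ Ds Dset (σ4 0) := by
  obtain ⟨hm, h2, h12⟩ := sub_range x hx
  refine ⟨σ_mem_D x h12, fun e => ?_, (l_central (σ_mem hm)).symm⟩
  obtain ⟨d, hd, hne⟩ := near_ne x h12 h2
  have hlt : d < 306936 := (show ∀ d ∈ [1, 2, 4, 6, 9, 12, 17, 24, 36, 54, 84, 130], d < 306936 by decide) d hd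
  have h1 := Out.real_G h12 ⟨d, hlt⟩
  rw [e, Out.real_G (x := 0) (by decide)] at h1
  exact hne h1.symm

theorem closure_near : Subgroup.closure (Ds Dset (σ4 0)) = cert.sub := by
  refine le_antisymm ((Subgroup.closure_le _).mpr fun y hy => ?_) ?_
  · rw [SetLike.mem_coe, ← centralizer_eq]
    exact Subgroup.mem_centralizer_singleton_iff.mpr hy.2.2.symm.eq
  · have hgen : ∀ x ∈ [2, 3, 4, 5, 6, 7, 8, 9, 10, 11], σ4 x ∈ Subgroup.closure (Ds Dset (σ4 0)) :=
      fun x hx => Subgroup.subset_closure (gen_near hx)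
    have h0 : σ4 0 ∈ Subgroup.closure (Ds Dset (σ4 0)) := by
      suffices h : W (List.replicate 9 e7Fi24).flatten ∈ Subgroup.closure (Ds Dset (σ4 0)) by
        rwa [e7_eq_l] at h
      refine list_prod_mem ?_
      intro g hg
      obtain ⟨x, hx, rfl⟩ := List.mem_map.mp hg
      exact hgen x ((show ∀ x ∈ (List.replicate 9 e7Fi24).flatten, x ∈ [2, 3, 4, 5, 6, 7, 8, 9, 10, 11] by
        decide +kernel) x hx)
    intro g hg
    have h : (⟨g, hg⟩ : cert.sub) ∈ (Subgroup.closure (Ds Dset (σ4 0))).subgroupOf cert.sub := by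
      refine (Subgroup.closure_le _).mpr ?_ (gS_closure ▸ Subgroup.mem_top _)
      rintro _ ⟨x, hx, rfl⟩
      rw [SetLike.mem_coe, Subgroup.mem_subgroupOf, gS_val hx]
      rcases (show ∀ x ∈ [0, 2, 3, 4, 5, 6, 7, 8, 9, 10, 11], x = 0 ∨ x ∈ [2, 3, 4, 5, 6, 7, 8, 9, 10, 11] by decide) x hx
        with rfl | hx'
      · exact h0
      · exact hgen x hx'
    exact h

theorem conj_mem_D (g : P4) {d : P4} (hd : d ∈ Dset) : g * d * g⁻¹ ∈ Dset := by
  obtain ⟨u, rfl⟩ := isConj_iff.mp hd
  exact isConj_iff.mpr ⟨g * u, by group⟩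

/-- The members of the class, by double cosets. -/
theorem member_cases {y : P4} (hy : y ∈ Dset) : y = σ4 0 ∨
    (y ∈ Ds Dset (σ4 0) ∧ ∃ h ∈ cert.sub, h * σ4 2 * h⁻¹ = y) ∨
    (¬ Commute (σ4 0) y ∧ ∃ h ∈ cert.sub, h * rootT 1 * h⁻¹ = y) := by
  obtain ⟨u, rfl⟩ := isConj_iff.mp hy
  obtain ⟨r, hr, h, hh, e, -⟩ := conj_form u
  have hht : h * σ4 0 * h⁻¹ = σ4 0 := by rw [(l_central hh).eq, mul_inv_cancel_right]
  rcases hr with rfl | rfl | rfl
  · left
    rw [e, show rootT 0 = σ4 0 by simp [rootT, root]]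
    exact hht
  · refine Or.inr (Or.inr ⟨fun hc => ?_, h, hh, e.symm⟩)
    rw [e] at hc
    have h1 : Commute (σ4 0) (rootT 1) := by
      have := hc.map (MulAut.conj h⁻¹)
      rw [MulAut.conj_apply, MulAut.conj_apply, inv_inv] at this
      rwa [show h⁻¹ * σ4 0 * h = σ4 0 by rw [mul_assoc, ← (l_central hh).eq, inv_mul_cancel_left],
        show h⁻¹ * (h * rootT 1 * h⁻¹) * h = rootT 1 by group] at this
    have hm : rootT 1 ∈ cert.sub := by
      rw [← centralizer_eq]; exact Subgroup.mem_centralizer_singleton_iff.mpr h1.symm.eq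
    have hf := congrArg Fin.val (mem_sub_iff.mp hm)
    rw [rootT_one] at hf
    have h1' := cert.hom_word_run' hltRels hidFi24 [0, 1, 0] (by decide) ⟨0, cert.hn⟩
    simp only [List.map_cons, List.map_nil, List.prod_cons, List.prod_nil, mul_one, ← mul_assoc] at h1'
    rw [h1'] at hf
    revert hf
    decide +kernel
  · refine Or.inr (Or.inl ⟨?_, h, hh, by rw [← rootT_eight]; exact e.symm⟩)
    obtain ⟨h1, h2, h3⟩ := gen_near (x := 2) (by decide)
    refine ⟨hy, ?_, ?_⟩
    · rw [e, rootT_eight]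
      intro q
      have q' : h * σ4 2 * h⁻¹ = h * σ4 0 * h⁻¹ := q.trans hht.symm
      exact h2 (mul_left_cancel (mul_right_cancel q'))
    · rw [e, rootT_eight]
      have := h3.map (MulAut.conj h)
      rw [MulAut.conj_apply, MulAut.conj_apply, hht] at this
      exact this

theorem center_sub : Subgroup.center cert.sub = N0 := by
  haveI : IsSimpleGroup presFi23.Grp := Cfsg.Agent.S1697.result.1
  refine le_antisymm (fun z hz => ?_) N0_le
  rw [← proj_ker, MonoidHom.mem_ker]
  have hc : proj z ∈ Subgroup.center presFi23.Grp := Subgroup.mem_center_iff.mpr fun q => by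
    obtain ⟨g, rfl⟩ := proj_surj q
    rw [← map_mul, ← map_mul, Subgroup.mem_center_iff.mp hz g]
  rw [center_bot_of_simple noncomm23] at hc
  exact hc

/-- The point stabiliser modulo its centre is Fi23, the partners going to the transpositions. -/
theorem quot24 : ∃ e : presFi23.Grp ≃* ↥cert.sub ⧸ Subgroup.center ↥cert.sub,
    e '' conjugatesOf Fi23Class.tp = QuotientGroup.mk '' {x : ↥cert.sub | (x : P4) ∈ Ds Dset (σ4 0)} := by
  haveI := finite23
  have hk : Subgroup.center ↥cert.sub = proj.ker := center_sub.trans proj_ker.symm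
  let E : ↥cert.sub ⧸ Subgroup.center ↥cert.sub ≃* presFi23.Grp :=
    (QuotientGroup.quotientMulEquivOfEq hk).trans (QuotientGroup.quotientKerEquivOfSurjective proj proj_surj)
  have hE : ∀ g : cert.sub, E (QuotientGroup.mk g) = proj g := fun g => rfl
  have h2 : proj (gS 2) = presFi23.σ 0 := Out.proj_gS (x := 0) (by decide)
  have hv2 : (gS 2 : P4) = σ4 2 := gS_val (by decide)
  refine ⟨E.symm, ?_⟩
  ext y
  constructor
  · rintro ⟨d, hd, rfl⟩
    obtain ⟨w, hw⟩ := isConj_iff.mp sigma0_mem.1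
    obtain ⟨u, hu⟩ := isConj_iff.mp hd
    obtain ⟨g, hg⟩ := proj_surj (u * w⁻¹)
    refine ⟨g * gS 2 * g⁻¹, ?_, ?_⟩
    · show ((g * gS 2 * g⁻¹ : cert.sub) : P4) ∈ Ds Dset (σ4 0)
      rw [Subgroup.coe_mul, Subgroup.coe_mul, Subgroup.coe_inv, hv2]
      obtain ⟨h1, h2', h3⟩ := gen_near (x := 2) (by decide)
      have hgt : (g : P4) * σ4 0 * (g : P4)⁻¹ = σ4 0 := by rw [(l_central g.2).eq, mul_inv_cancel_right]
      refine ⟨conj_mem_D _ h1, fun q => h2' ?_, ?_⟩
      · exact mul_left_cancel (mul_right_cancel (q.trans hgt.symm))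
      · have := h3.map (MulAut.conj (g : P4))
        rw [MulAut.conj_apply, MulAut.conj_apply, hgt] at this
        exact this
    · refine E.injective ?_
      rw [E.apply_symm_apply, hE, map_mul, map_mul, map_inv, h2, hg, ← hw, ← hu]
      group
  · rintro ⟨x, hx, rfl⟩
    rcases member_cases hx.1 with e | ⟨-, h, hh, he⟩ | ⟨hn, -⟩
    · exact absurd e hx.2.1
    · refine ⟨proj x, ?_, E.injective ?_⟩
      · rw [show x = ⟨h, hh⟩ * gS 2 * (⟨h, hh⟩ : cert.sub)⁻¹ from Subtype.ext (by
          rw [Subgroup.coe_mul, Subgroup.coe_mul, Subgroup.coe_inv, hv2]; exact he.symm)]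
        rw [map_mul, map_mul, map_inv, h2]
        exact IsConj.trans sigma0_mem.1 (isConj_iff.mpr ⟨_, rfl⟩)
      · rw [E.apply_symm_apply, hE]
    · exact absurd hx.2.2 hn

/-- The common centraliser of the base pair has the order of the extended orthogonal group. -/
theorem card_pair24 : Nat.card ↥(Subgroup.centralizer ({σ4 0} : Set P4) ⊓ Subgroup.centralizer ({rootT 1} : Set P4)) =
    29713078886400 := by
  classical
  haveI := finite24
  set Near := Ds Dset (σ4 0)
  set Far := {y | y ∈ Dset ∧ ¬ Commute (σ4 0) y}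
  have hnear : Near.ncard = 31671 := by
    let f : P4 → presFi23.Grp := fun y => if h : y ∈ cert.sub then proj ⟨y, h⟩ else 1
    have hin : ∀ y ∈ Near, y ∈ cert.sub := fun y hy => by
      rw [← centralizer_eq]; exact Subgroup.mem_centralizer_singleton_iff.mpr hy.2.2.symm.eq
    have hsgn : ∀ y ∈ Dset, sgn y = -1 := fun y hy => by
      obtain ⟨u, rfl⟩ := isConj_iff.mp hy
      rw [map_mul, map_mul, map_inv, mul_inv_cancel_comm, sgn_σ0]
    rw [← Fi23Class.facts.2.2]
    refine Set.ncard_congr (fun y _ => f y) (fun y hy => ?_) (fun a b ha hb e => ?_) (fun z hz => ?_)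
    · obtain ⟨e, he⟩ := quot24
      rcases member_cases hy.1 with q | ⟨-, h, hh, q⟩ | ⟨hn, -⟩
      · exact absurd q hy.2.1
      · simp only [f, dif_pos (hin y hy)]
        rw [show (⟨y, hin y hy⟩ : cert.sub) = ⟨h, hh⟩ * gS 2 * (⟨h, hh⟩ : cert.sub)⁻¹ from Subtype.ext (by
          rw [Subgroup.coe_mul, Subgroup.coe_mul, Subgroup.coe_inv, gS_val (by decide)]; exact q.symm)]
        rw [map_mul, map_mul, map_inv, show proj (gS 2) = presFi23.σ 0 from Out.proj_gS (x := 0) (by decide)]
        exact IsConj.trans sigma0_mem.1 (isConj_iff.mpr ⟨_, rfl⟩)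
      · exact absurd hy.2.2 hn
    · simp only [f, dif_pos (hin a ha), dif_pos (hin b hb)] at e
      exact congrArg Subtype.val (Out.proj_inj e ((hsgn a ha.1).trans (hsgn b hb.1).symm))
    · obtain ⟨w, hw⟩ := isConj_iff.mp sigma0_mem.1
      obtain ⟨u, hu⟩ := isConj_iff.mp hz
      obtain ⟨g, hg⟩ := proj_surj (u * w⁻¹)
      have hy : (g : P4) * σ4 2 * (g : P4)⁻¹ ∈ Near := by
        obtain ⟨h1, h2', h3⟩ := gen_near (x := 2) (by decide)
        have hgt : (g : P4) * σ4 0 * (g : P4)⁻¹ = σ4 0 := by rw [(l_central g.2).eq, mul_inv_cancel_right]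
        refine ⟨conj_mem_D _ h1, fun q => h2' ?_, ?_⟩
        · exact mul_left_cancel (mul_right_cancel (q.trans hgt.symm))
        · have := h3.map (MulAut.conj (g : P4))
          rw [MulAut.conj_apply, MulAut.conj_apply, hgt] at this
          exact this
      refine ⟨_, hy, ?_⟩
      simp only [f, dif_pos (hin _ hy)]
      rw [show (⟨_, hin _ hy⟩ : cert.sub) = g * gS 2 * g⁻¹ from Subtype.ext (by
        rw [Subgroup.coe_mul, Subgroup.coe_mul, Subgroup.coe_inv, gS_val (by decide)])]
      rw [map_mul, map_mul, map_inv, show proj (gS 2) = presFi23.σ 0 from Out.proj_gS (x := 0) (by decide), hg,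
        ← hw, ← hu]
      group
  have hfar : Far.ncard = 275264 := by
    have hun : Dset = insert (σ4 0) (Near ∪ Far) := by
      ext y
      constructor
      · intro hy
        by_cases h : y = σ4 0
        · exact Or.inl h
        · by_cases hc : Commute (σ4 0) y
          · exact Or.inr (Or.inl ⟨hy, h, hc⟩)
          · exact Or.inr (Or.inr ⟨hy, hc⟩)
      · rintro (rfl | h | h)
        exacts [mem_conjugatesOf_self, h.1, h.1]
    have hdis : Disjoint Near Far := Set.disjoint_left.mpr fun y h1 h2 => h2.2 h1.2.2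
    have hni : σ4 0 ∉ Near ∪ Far := by
      rintro (h | h)
      exacts [h.2.1 rfl, h.2 (Commute.refl _)]
    have := card_D
    rw [hun, Set.ncard_insert_of_notMem hni (Set.toFinite _), Set.ncard_union_eq hdis (Set.toFinite _)
      (Set.toFinite _), hnear] at this
    omega
  have hr1 : ¬ Commute (σ4 0) (rootT 1) := by
    intro hc
    rcases member_cases (y := rootT 1) (isConj_iff.mpr ⟨root 1, rfl⟩) with h | ⟨-, h, hh, e⟩ | ⟨hn, -⟩
    · exact rootT_ne (Or.inl rfl) h
    · have hr := hc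
      have := cert.hom_word_run' hltRels hidFi24 [0, 1, 0] (by decide) ⟨0, cert.hn⟩
      simp only [List.map_cons, List.map_nil, List.prod_cons, List.prod_nil, mul_one, ← mul_assoc] at this
      have hm : rootT 1 ∈ cert.sub := by
        rw [← centralizer_eq]; exact Subgroup.mem_centralizer_singleton_iff.mpr hr.symm.eq
      have hf := congrArg Fin.val (mem_sub_iff.mp hm)
      rw [rootT_one, this] at hf
      revert hf
      decide +kernel
    · exact hn hc
  have h := CfsgThreeTrans.M22.card_orbit_stab cert.sub (rootT 1) Far (fun k hk => by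
      refine ⟨conj_mem_D _ (isConj_iff.mpr ⟨root 1, rfl⟩), fun hc => hr1 ?_⟩
      have := hc.map (MulAut.conj k⁻¹)
      rw [MulAut.conj_apply, MulAut.conj_apply, inv_inv] at this
      rwa [show k⁻¹ * σ4 0 * k = σ4 0 by rw [mul_assoc, ← (l_central hk).eq, inv_mul_cancel_left],
        show k⁻¹ * (k * rootT 1 * k⁻¹) * k = rootT 1 by group] at this) (fun y hy => by
      rcases member_cases hy.1 with e | ⟨hn, -⟩ | ⟨-, hk⟩
      · exact absurd (e ▸ Commute.refl _) hy.2
      · exact absurd hn.2.2 hy.2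
      · exact hk)
  rw [card_sub, hfar, ← centralizer_eq] at h
  omega

end CfsgThreeTrans.Exist
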