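/-
Kernel checks of the data of common partners at the top level.
-/
import Cfsg.Agent.Lib.ThreeTrans.Exist.Data24
import Cfsg.Agent.Lib.CosetEnum.Fi24Table.Out.Fun

set_option autoImplicit false
set_option Elab.async false
set_option maxRecDepth 1000000

namespace CfsgThreeTrans.Exist

open CfsgLib.CosetEnum

theorem rows24_1 :
    fam24.okRows Fi24Table.table 12 (Fi24Table.Out.fG 0) 270 270 = true := by decide +kernel

end CfsgThreeTrans.Exist
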