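/-
Kernel checks of the data of common partners at the top level.
-/
import Cfsg.Agent.Lib.ThreeTrans.Exist.Check24p0
import Cfsg.Agent.Lib.ThreeTrans.Exist.Check24p1
import Cfsg.Agent.Lib.ThreeTrans.Exist.Check24p2
import Cfsg.Agent.Lib.ThreeTrans.Exist.Check24p3
import Cfsg.Agent.Lib.ThreeTrans.Exist.Check24p4
import Cfsg.Agent.Lib.ThreeTrans.Exist.Check24p5
import Cfsg.Agent.Lib.ThreeTrans.Exist.Check24p6
import Cfsg.Agent.Lib.ThreeTrans.Exist.Check24p7
import Cfsg.Agent.Lib.ThreeTrans.Exist.Check24p8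
import Cfsg.Agent.Lib.ThreeTrans.Exist.Check24p9
import Cfsg.Agent.Lib.ThreeTrans.Exist.Check24p10
import Cfsg.Agent.Lib.ThreeTrans.Exist.Check24p11

set_option autoImplicit false
set_option Elab.async false
set_option maxRecDepth 1000000

namespace CfsgThreeTrans.Exist

open CfsgLib.CosetEnum

theorem rows24 : ∀ i < fam24.N, fam24.okRow Fi24Table.table 12 (Fi24Table.Out.fG 0) i = true := by
  have h0 : ∀ i < 0, fam24.okRow Fi24Table.table 12 (Fi24Table.Out.fG 0) i = true := fun i hi =>
    absurd hi (Nat.not_lt_zero i)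
  have h1 := Fam.okRows_sound rows24_0 h0
  have h2 := Fam.okRows_sound rows24_1 h1
  have h3 := Fam.okRows_sound rows24_2 h2
  have h4 := Fam.okRows_sound rows24_3 h3
  have h5 := Fam.okRows_sound rows24_4 h4
  have h6 := Fam.okRows_sound rows24_5 h5
  have h7 := Fam.okRows_sound rows24_6 h6
  have h8 := Fam.okRows_sound rows24_7 h7
  have h9 := Fam.okRows_sound rows24_8 h8
  have h10 := Fam.okRows_sound rows24_9 h9
  have h11 := Fam.okRows_sound rows24_10 h10
  have h12 := Fam.okRows_sound rows24_11 h11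
  exact h12

theorem rows24a : ∀ i < fam24a.N, fam24a.okRow Fi24Table.table 12 (Fi24Table.Out.fG 0) i = true := by
  have h : fam24a.okRows Fi24Table.table 12 (Fi24Table.Out.fG 0) 0 1080 = true := by decide +kernel
  exact Fam.okRows_sound h fun i hi => absurd hi (Nat.not_lt_zero i)

theorem gens24 : fam24.okGens Fi24Table.table 12 (Fi24Table.Out.fG 0) cp24 = true := by decide +kernel

theorem gens24a : fam24a.okGens Fi24Table.table 12 (Fi24Table.Out.fG 0) cp24 = true := by decide +kernel

theorem mem24 : allN fam24a.N (vecs24.okMem 8 (fun k => Nat.mod (Nat.add k 4) 8) fam24a) = true := by decide +kernel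

theorem cover24 : allN (3 ^ 8) (vecs24.okCover 8 (fun k => Nat.mod (Nat.add k 4) 8) fam24a) = true := by decide +kernel

theorem cpt24 : runT Fi24Table.table 12 cw24.reverse 0 = cp24 ∧ (∀ x ∈ cw24, x < 12) ∧ cp24 < 306936 ∧
    Fi24Table.Out.fG 0 cp24 ≠ cp24 := by decide +kernel

end CfsgThreeTrans.Exist
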