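/-
A group generated by transpositions in three classes maps onto the symmetric group of degree three.
-/
import Cfsg.Agent.Lib.ThreeTrans.Exist.Tables

set_option autoImplicit false

namespace CfsgThreeTrans.Exist

/-- The transposition of three letters fixing a letter. -/
def τ3 (a : Fin 3) : Equiv.Perm (Fin 3) := Equiv.swap (a + 1) (a + 2)

theorem τ3_inj : ∀ a b, τ3 a = τ3 b → a = b := by decide

theorem τ3_centerless : ∀ σ : Equiv.Perm (Fin 3), (∀ a, σ * τ3 a * σ⁻¹ = τ3 a) → σ = 1 := by decide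

theorem τ3_conj : ∀ a b, τ3 (τ3 a b) = τ3 a * τ3 b * (τ3 a)⁻¹ := by decide

theorem τ3_gen : ∀ σ : Equiv.Perm (Fin 3),
    σ ∈ [1, τ3 0, τ3 1, τ3 0 * τ3 1, τ3 1 * τ3 0, τ3 0 * τ3 1 * τ3 0] := by decide

/-- The action on classes as a homomorphism. -/
theorem exists_class_hom {G : Type*} [Group G] {ι : Type*} [Finite ι] (el : ι → G) (hinj : Function.Injective el)
    (cl : ι → Fin 3) (hcl : Function.Surjective cl) (J : Set ι)
    (hJ : ∀ j ∈ J, ∀ i, ∃ i', el i' = el j * el i * (el j)⁻¹ ∧ cl i' = τ3 (cl j) (cl i)) :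
    ∃ χ : ↥(Subgroup.closure (el '' J)) →* Equiv.Perm (Fin 3),
      ∀ j (hj : j ∈ J), χ ⟨el j, Subgroup.subset_closure ⟨j, hj, rfl⟩⟩ = τ3 (cl j) := by
  set X := (fun j => (el j, τ3 (cl j))) '' J
  have hmv : ∀ p ∈ Subgroup.closure X, Moves el (fun i => τ3 (cl i)) p := moves_closure hinj (by
    rintro _ ⟨j, hj, rfl⟩ i
    obtain ⟨i', h1, h2⟩ := hJ j hj i
    exact ⟨i', h1, by dsimp only; rw [h2]; exact τ3_conj _ _⟩)
  have hfun : ∀ σ, ((1 : G), σ) ∈ Subgroup.closure X → σ = 1 := by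
    intro σ h
    refine τ3_centerless σ fun a => ?_
    obtain ⟨i, rfl⟩ := hcl a
    obtain ⟨i', h1, h2⟩ := hmv _ h i
    dsimp only at h1 h2
    rw [one_mul, inv_one, mul_one] at h1
    rw [hinj h1] at h2
    exact h2.symm
  have hex : ∀ g : ↥(Subgroup.closure (el '' J)), ∃ σ, ((g : G), σ) ∈ Subgroup.closure X := by
    intro g
    have : (g : G) ∈ (Subgroup.closure X).map (MonoidHom.fst G (Equiv.Perm (Fin 3))) := by
      rw [MonoidHom.map_closure, ← Set.image_comp]
      exact g.2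
    obtain ⟨⟨a, b⟩, hab, e⟩ := this
    exact ⟨b, by rw [← e]; exact hab⟩
  choose s hs using hex
  have huniq : ∀ (g : ↥(Subgroup.closure (el '' J))) (σ : Equiv.Perm (Fin 3)), ((g : G), σ) ∈ Subgroup.closure X → s g = σ := by
    intro g σ h
    have := Subgroup.mul_mem _ (Subgroup.inv_mem _ (hs g)) h
    rw [Prod.inv_mk, Prod.mk_mul_mk, inv_mul_cancel] at this
    exact inv_mul_eq_one.mp (hfun _ this)
  refine ⟨MonoidHom.mk' s fun a b => huniq (a * b) (s a * s b) ?_, fun j hj => huniq _ _ ?_⟩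
  · have := Subgroup.mul_mem _ (hs a) (hs b)
    rw [Prod.mk_mul_mk] at this
    exact this
  · exact Subgroup.subset_closure ⟨j, hj, rfl⟩

end CfsgThreeTrans.Exist
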