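/-
The derived group of a projective reflection group in dimension eight of plus type contains the simple orthogonal group.
-/
import Cfsg.Agent.Lib.ThreeTrans.Exist.Refl
import Cfsg.Agent.Lib.ThreeTrans.M22.ReflSeven
import Cfsg.Agent.S0293
import Cfsg.Agent.S0296

set_option autoImplicit false

namespace CfsgThreeTrans.Exist

open Matrix QuadraticMap CfsgReflClass

/-- The involution pairing the coordinates of a hyperbolic space of dimension eight. -/
def π8 : Equiv.Perm (Fin 8) where
  toFun i := i + 4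
  invFun i := i + 4
  left_inv := by decide
  right_inv := by decide

theorem π8_invol : ∀ i, π8 (π8 i) = i := by decide

theorem π8_pf : ∀ i : Fin 8, (fun k : ℕ => Nat.mod (Nat.add k 4) 8) i = (π8 i : ℕ) := by decide

abbrev I8 := Fin 4 ⊕ Fin 4

theorem card_pomega8 : Nat.card (Cfsg.POmega K3 (Cfsg.quadFormPlus 4 K3)) = 4952179814400 := by
  have h := Cfsg.Agent.S0293.result (F := ZMod 3) (q := 3) (ZMod.card 3) 4 le_rfl
  norm_num [Finset.prod_range_succ] at h
  exact Nat.eq_of_mul_eq_mul_left (show 0 < 4 by norm_num) (h.trans (by norm_num))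

/-- The simple orthogonal group sits inside the derived group of the projective reflection group. -/
theorem refl8 : ∃ M : Subgroup (↥(Cfsg.reflectionSubgroup (⇑(QR π8)) 1) ⧸
      Subgroup.center ↥(Cfsg.reflectionSubgroup (⇑(QR π8)) 1)),
    M ≤ commutator _ ∧ Nonempty (↥M ≃* Cfsg.POmega K3 (Cfsg.quadFormPlus 4 K3)) := by
  classical
  set Q := QR π8
  have hQn : (polarBilin Q).Nondegenerate := QR_nondeg π8_invol
  set f := Cfsg.quadFormPlus 4 K3
  let e : (I8 → K3) ≃ₗ[K3] (Fin 8 → K3) := LinearEquiv.funCongrLeft K3 K3 (finSumFinEquiv (m := 4) (n := 4)).symm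
  let Q' : QuadraticForm K3 (I8 → K3) := Q.comp e.toLinearMap
  have hQ' : ∀ v, Q' v = 2 * f v := by
    intro v
    show Q (e v) = _
    rw [QR_apply, B, Fin.sum_univ_eight]
    show _ = 2 * ∑ i : Fin 4, v (.inl i) * v (.inr i)
    rw [Fin.sum_univ_four]
    show v (.inl 0) * v (.inr 0) + v (.inl 1) * v (.inr 1) + v (.inl 2) * v (.inr 2) + v (.inl 3) * v (.inr 3) +
      v (.inr 0) * v (.inl 0) + v (.inr 1) * v (.inl 1) + v (.inr 2) * v (.inl 2) + v (.inr 3) * v (.inl 3) = _
    ring
  have hsame : Cfsg.isometryGroup K3 f = Cfsg.isometryGroup K3 (⇑Q') := by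
    ext g
    constructor
    · intro hg v w
      show Q' _ = Q' _
      rw [hQ', hQ']
      exact congrArg (2 * ·) (hg v w)
    · intro hg v w
      exact mul_left_cancel₀ (show (2 : K3) ≠ 0 by decide) ((hQ' _).symm.trans ((hg v w).trans (hQ' _)))
  let φ : Cfsg.isometryGroup K3 f ≃* Cfsg.isometryGroup K3 (⇑Q) :=
    (MulEquiv.subgroupCongr hsame).trans (((CfsgLib.SpinorMatrix.isoEquiv Q').trans
      (CfsgLib.OmegaSylowTwo.quadIsoCongr Q' Q e fun v => rfl)).trans (CfsgLib.SpinorMatrix.isoEquiv Q).symm)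
  set O := Cfsg.isometryGroup K3 (⇑Q)
  set R := Cfsg.reflectionSubgroup (⇑Q) 1
  haveI hRn : R.Normal := Subgroup.normal_of_index_eq_two (refl_index hQn (by norm_num) one_ne_zero)
  set Om := Cfsg.Omega K3 (⇑Q)
  have hOmR : Om ≤ R := by
    refine Subgroup.Normal.quotient_commutative_iff_commutator_le.mp ?_
    have hq : Nat.card (O ⧸ R) = 2 := by rw [← Subgroup.index]; exact refl_index hQn (by norm_num) one_ne_zero
    haveI : Fact (Nat.Prime 2) := ⟨Nat.prime_two⟩
    haveI := isCyclic_of_prime_card hq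
    exact ⟨⟨fun a b => IsCyclic.commGroup.mul_comm a b⟩⟩
  set ψ : Om →* R ⧸ Subgroup.center R :=
    (QuotientGroup.mk' (Subgroup.center R)).comp (Subgroup.inclusion hOmR)
  have hker : ψ.ker = Subgroup.center Om := by
    ext z
    rw [MonoidHom.mem_ker]
    refine (QuotientGroup.eq_one_iff (Subgroup.inclusion hOmR z)).trans ⟨fun h => ?_, fun h => ?_⟩
    · exact Subgroup.mem_center_iff.mpr fun g => Subgroup.inclusion_injective hOmR
        (by rw [map_mul, map_mul]; exact Subgroup.mem_center_iff.mp h _)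
    · refine Subgroup.mem_center_iff.mpr fun g => Subtype.ext (Subtype.ext (Units.ext ?_))
      show g.1.1.1 * z.1.1.1 = z.1.1.1 * g.1.1.1
      rcases CfsgLib.POmegaCard.center_cases Q (by simp) hQn z h with e | e <;> rw [e] <;> simp
  let φ' : Cfsg.Omega K3 f ≃* Om :=
    ((Cfsg.Omega K3 f).equivMapOfInjective φ.toMonoidHom φ.injective).trans (MulEquiv.subgroupCongr (by
      show (commutator _).map φ.toMonoidHom = commutator _
      rw [_root_.commutator_def, Subgroup.map_commutator, Subgroup.map_top_of_surjective φ.toMonoidHom φ.surjective,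
        ← _root_.commutator_def]))
  have hmapc : (Subgroup.center (Cfsg.Omega K3 f)).map φ'.toMonoidHom = Subgroup.center Om := by
    ext y
    constructor
    · rintro ⟨x, hx, rfl⟩
      refine Subgroup.mem_center_iff.mpr fun g => ?_
      obtain ⟨g, rfl⟩ := φ'.surjective g
      show φ' g * φ' x = φ' x * φ' g
      rw [← map_mul, ← map_mul, Subgroup.mem_center_iff.mp hx g]
    · intro hy
      refine ⟨φ'.symm y, Subgroup.mem_center_iff.mpr fun g => φ'.injective ?_, φ'.apply_symm_apply y⟩
      rw [map_mul, map_mul, φ'.apply_symm_apply, Subgroup.mem_center_iff.mp hy]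
  let eM : ↥ψ.range ≃* Cfsg.POmega K3 f :=
    (QuotientGroup.quotientKerEquivRange ψ).symm.trans ((QuotientGroup.quotientMulEquivOfEq hker).trans
      (QuotientGroup.congr _ _ φ' hmapc).symm)
  refine ⟨ψ.range, ?_, ⟨eM⟩⟩
  haveI : IsSimpleGroup (Cfsg.POmega K3 f) := Cfsg.Agent.S0296.result (F := ZMod 3) 4 le_rfl
  haveI : Nontrivial ↥ψ.range := eM.toEquiv.nontrivial
  haveI : IsSimpleGroup ↥ψ.range := IsSimpleGroup.isSimpleGroup_of_surjective (f := eM.symm.toMonoidHom) eM.symm.surjective
  rcases IsSimpleGroup.eq_bot_or_eq_top_of_normal (commutator ↥ψ.range) inferInstance with h | h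
  · exfalso
    letI : CommGroup ↥ψ.range := { (inferInstance : Group ↥ψ.range) with
      mul_comm := fun a b => commutatorElement_eq_one_iff_mul_comm.mp (Subgroup.mem_bot.mp
        (h ▸ Subgroup.commutator_mem_commutator (Subgroup.mem_top a) (Subgroup.mem_top b))) }
    have hp := IsSimpleGroup.prime_card (α := ↥ψ.range)
    rw [Nat.card_congr eM.toEquiv, card_pomega8] at hp
    norm_num at hp
  · intro x hx
    have hm : x ∈ (commutator ↥ψ.range).map ψ.range.subtype := by rw [h]; exact ⟨⟨x, hx⟩, trivial, rfl⟩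
    rw [Subgroup.map_subtype_commutator] at hm
    rw [_root_.commutator_def]
    exact Subgroup.commutator_mono le_top le_top hm

end CfsgThreeTrans.Exist
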