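/-
The presented Fischer group Fi24 is of type M(24).
-/
import Cfsg.Agent.Lib.ThreeTrans.Exist.Near24
import Cfsg.Agent.Lib.ThreeTrans.Exist.Check24
import Cfsg.Agent.Lib.ThreeTrans.Exist.Omega8
import Cfsg.Agent.Lib.ThreeTrans.Exist.ClassAction

set_option autoImplicit false
set_option maxRecDepth 1000000

namespace CfsgThreeTrans.Exist

open Cfsg CfsgLib.CosetEnum CfsgLib.CosetEnum.Fi24Table

local notation "P4" => presFi24.Grp
local notation "σ4" => presFi24.σ

theorem pt24 : cert.IsPt hltRels (σ4 0) (rootT 1) ⟨cp24, cpt24.2.2.1⟩ := by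
  have h := cert.isPt_word hltRels hidFi24 (t := σ4 0) cw24 cpt24.2.1 cpt24.2.2.1 cpt24.1
  have e : (cw24.map presFi24.σ).prod = root 1 := by simp [cw24, root]
  rw [e] at h
  exact h

/-- The class of transpositions is primitive. -/
theorem primitive24 : IsPrimitiveUnderConj Dset := by
  refine ⟨fun a ha b hb => ?_, ⟨_, mem_conjugatesOf_self, rootT 1, isConj_iff.mpr ⟨root 1, rfl⟩,
    (rootT_ne (Or.inl rfl)).symm⟩, fun B hB hblk => ?_⟩
  · obtain ⟨u, rfl⟩ := isConj_iff.mp ha
    obtain ⟨v, rfl⟩ := isConj_iff.mp hb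
    exact ⟨v * u⁻¹, by group⟩
  · by_contra hcon
    push_neg at hcon
    obtain ⟨hns, hne⟩ := hcon
    obtain ⟨x, hx, y, hy, hxy⟩ := hns
    obtain ⟨u, hu⟩ := isConj_iff.mp (hB hx)
    set B' := (fun z => u⁻¹ * z * u⁻¹⁻¹) '' B
    have hB' : B' ⊆ Dset := by rintro _ ⟨z, hz, rfl⟩; exact conj_mem_D _ (hB hz)
    have h0 : σ4 0 ∈ B' := ⟨x, hx, by rw [← hu]; group⟩
    have hblk' : ∀ g : P4, (fun z => g * z * g⁻¹) '' B' = B' ∨ Disjoint ((fun z => g * z * g⁻¹) '' B') B' := by
      intro g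
      have hcomp : ∀ g : P4, (fun z => g * z * g⁻¹) '' B' = (fun z => u⁻¹ * z * u⁻¹⁻¹) ''
          ((fun z => (u * g * u⁻¹) * z * (u * g * u⁻¹)⁻¹) '' B) := by
        intro g
        rw [Set.image_image, Set.image_image]
        refine Set.image_congr fun z _ => ?_
        group
      rw [hcomp]
      rcases hblk (u * g * u⁻¹) with h | h
      · exact Or.inl (by rw [h])
      · exact Or.inr (Set.disjoint_image_of_injective (fun a b e => mul_left_cancel (mul_right_cancel e)) h)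
    let K : Subgroup P4 :=
      { carrier := {g | (fun z => g * z * g⁻¹) '' B' = B'}
        one_mem' := by simp
        mul_mem' := fun {a b} ha hb => by
          calc (fun z => a * b * z * (a * b)⁻¹) '' B'
              = (fun z => a * z * a⁻¹) '' ((fun z => b * z * b⁻¹) '' B') := by
                conv_rhs => rw [Set.image_image]
                exact Set.image_congr fun z _ => by group
            _ = (fun z => a * z * a⁻¹) '' B' := congrArg _ (hb : (fun z => b * z * b⁻¹) '' B' = B')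
            _ = B' := ha
        inv_mem' := fun {a} ha => by
          calc (fun z => a⁻¹ * z * a⁻¹⁻¹) '' B'
              = (fun z => a⁻¹ * z * a⁻¹⁻¹) '' ((fun z => a * z * a⁻¹) '' B') :=
                congrArg _ (ha : (fun z => a * z * a⁻¹) '' B' = B').symm
            _ = B' := by
                rw [Set.image_image]
                simp [mul_assoc] }
    have hle : cert.sub ≤ K := by
      intro g hg
      refine (hblk' g).resolve_right fun h => Set.disjoint_left.mp h ⟨σ4 0, h0, rfl⟩ ?_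
      show g * σ4 0 * g⁻¹ ∈ B'
      rw [(l_central hg).eq, mul_inv_cancel_right]
      exact h0
    rcases maximal hle with h | h
    · -- the block is a single point
      have hsing : ∀ z ∈ B', z = σ4 0 := by
        intro z hz
        obtain ⟨g, hg⟩ := isConj_iff.mp (hB' hz)
        have hgK : g ∈ K := (hblk' g).resolve_right fun hd => Set.disjoint_left.mp hd ⟨σ4 0, h0, hg⟩ hz
        rw [h] at hgK
        rw [← hg, (l_central hgK).eq, mul_inv_cancel_right]
      have e1 := hsing _ ⟨x, hx, rfl⟩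
      have e2 := hsing _ ⟨y, hy, rfl⟩
      exact hxy (mul_left_cancel (mul_right_cancel (e1.trans e2.symm)))
    · refine hne (Set.Subset.antisymm hB fun z hz => ?_)
      obtain ⟨v, hv⟩ := isConj_iff.mp hz
      have hk : u⁻¹ * v ∈ K := h ▸ Subgroup.mem_top _
      have : u⁻¹ * v * σ4 0 * (u⁻¹ * v)⁻¹ ∈ B' := hk.subset ⟨_, h0, rfl⟩
      obtain ⟨w, hw, hwe⟩ := this
      have : w = z := by
        rw [← hv]
        have hwe' : u⁻¹ * w * u⁻¹⁻¹ = u⁻¹ * (v * σ4 0 * v⁻¹) * u⁻¹⁻¹ := hwe.trans (by group)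
        exact mul_left_cancel (mul_right_cancel hwe')
      exact this ▸ hw

/-- The presented Fi24 is of type M(24). -/
theorem type24_pres : IsOfTypeM24 P4 Dset := by
  classical
  haveI := finite24
  haveI := finite23
  haveI hS0 : IsSimpleGroup (Cfsg.POmega K3 (Cfsg.quadFormPlus 4 K3)) := Cfsg.Agent.S0296.result (F := ZMod 3) 4 le_rfl
  have hncomm : ¬ Commute (σ4 0) (rootT 1) := by
    intro h
    have h1 := ((cert.isPt_fix hltRels Out.stab pt24 (σ4 0)).mpr h.eq)
    exact cpt24.2.2.2 ((Out.real_G (x := 0) (by decide) ⟨cp24, cpt24.2.2.1⟩).symm.trans (congrArg Fin.val h1))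
  refine ⟨center_eq_bot, σ4 0, mem_conjugatesOf_self, rootT 1, isConj_iff.mpr ⟨root 1, rfl⟩, hncomm, ?_, ?_⟩
  · obtain ⟨e, he⟩ := quot24
    have key : ∀ H : Subgroup P4, H = cert.sub →
        IsOfTypeM23 (↥H ⧸ Subgroup.center ↥H) (QuotientGroup.mk '' {x : ↥H | (x : P4) ∈ Ds Dset (σ4 0)}) := by
      rintro H rfl
      exact type23 e he type23_pres
    exact key _ closure_near
  obtain ⟨el, hinj, hmemD, hpt, hj⟩ := Fam.exists_members hidFi24 (k := 12) rfl Out.stab
    (Out.real_G (x := 0) (by decide)) cpt24.2.2.1 pt24 rows24 gens24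
  obtain ⟨el0, hinj0, -, hpt0, hj0⟩ := Fam.exists_members hidFi24 (k := 12) rfl Out.stab
    (Out.real_G (x := 0) (by decide)) cpt24.2.2.1 pt24 rows24a gens24a
  have hpos : ∀ j < fam24.jw.length, fam24.pos j < fam24.N := fun j h => (hj j h).1
  have hpos0 : ∀ j < fam24a.jw.length, fam24a.pos j < fam24a.N := fun j h => (hj0 j h).1
  obtain ⟨-, ⟨eR⟩⟩ := Vecs.match_equiv π8_invol π8_pf el0 hinj0 hpos0 (fun j h i => (hj0 j h).2.2 i) mem24 cover24
  -- the classes
  have hclt : ∀ i < fam24.N, cl24 i < 3 := fun i hi => by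
    have := allN_spec cls_ok i hi
    simp only [force_eq, okCls, Bool.and_eq_true, blt_iff] at this
    exact this.1
  let cl : Fin fam24.N → Fin 3 := fun i => ⟨cl24 i, hclt i i.2⟩
  have hclv : ∀ i : Fin fam24.N, (cl i : ℕ) = cl24 i := fun _ => rfl
  let J : Set (Fin fam24.N) := {i | ∃ j, j < fam24.jw.length ∧ (i : ℕ) = fam24.pos j}
  have hlen := nested.1
  have hnpos : 0 < fam24a.jw.length := by decide +kernel
  have hcl0 : ∀ j (h : j < fam24a.jw.length), cl ⟨fam24.pos j, hpos j (by omega)⟩ = 0 :=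
    fun j h => Fin.ext (nested.2 j h).1
  have hcl : Function.Surjective cl := by
    obtain ⟨hb, i, hi, hi1, hi2⟩ := three_classes
    have hb3 : cl24 (fam24.pos fam24a.jw.length) < 3 := hclt _ (hpos fam24a.jw.length (by omega))
    have hi3 : cl24 i < 3 := hclt i hi
    intro a
    have ha := a.2
    rcases (show (a : ℕ) = 0 ∨ (a : ℕ) = cl24 (fam24.pos fam24a.jw.length) ∨ (a : ℕ) = cl24 i by omega) with e | e | e
    · exact ⟨_, (hcl0 0 hnpos).trans (Fin.ext e.symm)⟩
    · exact ⟨⟨_, hpos fam24a.jw.length (by omega)⟩, Fin.ext ((hclv _).trans e.symm)⟩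
    · exact ⟨⟨i, hi⟩, Fin.ext e.symm⟩
  set K := Subgroup.closure (el '' J) with hKdef
  obtain ⟨χ, hχ⟩ : ∃ χ : ↥K →* Equiv.Perm (Fin 3), ∀ j (hj : j ∈ J),
      χ ⟨el j, Subgroup.subset_closure ⟨j, hj, rfl⟩⟩ = τ3 (cl j) := exists_class_hom el hinj cl hcl J (by
    rintro k ⟨j, hj', hk⟩ i
    obtain rfl : k = ⟨fam24.pos j, hpos j hj'⟩ := Fin.ext hk
    obtain ⟨hi, e⟩ := (hj j hj').2.2 i
    refine ⟨_, e, Fin.ext ?_⟩
    have := allN_spec cls_ok i i.2
    simp only [force_eq, okCls, Bool.and_eq_true] at this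
    have h' := allN_spec this.2 j hj'
    show cl24 (fam24.mv j i) = _
    rw [Nat.eq_of_beq_eq_true h']
    exact (show ∀ b a : Fin 3, (2 * ((a : ℕ) + b)) % 3 = (τ3 b a : ℕ) by decide) (cl ⟨_, hpos j hj'⟩) (cl i))
  have hKle : K ≤ Subgroup.closure (Ds Dset (σ4 0) ∩ Ds Dset (rootT 1)) := by
    refine Subgroup.closure_mono ?_
    rintro _ ⟨k, ⟨j, hj', hk⟩, rfl⟩
    obtain rfl : k = ⟨fam24.pos j, hpos j hj'⟩ := Fin.ext hk
    obtain ⟨h1, h2, h3, h4⟩ := (hj j hj').2.1
    exact ⟨⟨hmemD _, h1, h2⟩, hmemD _, h3, h4⟩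
  set K0 := Subgroup.closure {x | ∃ (j : ℕ) (h : j < fam24a.jw.length), x = el0 ⟨fam24a.pos j, hpos0 j h⟩}
  have hsame : ∀ j (h : j < fam24a.jw.length),
      el0 ⟨fam24a.pos j, hpos0 j h⟩ = el ⟨fam24.pos j, hpos j (by omega)⟩ := by
    intro j h
    obtain ⟨q1, p1⟩ := hpt0 ⟨fam24a.pos j, hpos0 j h⟩
    obtain ⟨q2, p2⟩ := hpt ⟨fam24.pos j, hpos j (by omega)⟩
    refine cert.isPt_unique hltRels Out.stab p1 ?_
    have e : (⟨fam24.pt (fam24.pos j), q2⟩ : Fin cert.T.n) = ⟨fam24a.pt (fam24a.pos j), q1⟩ := Fin.ext (nested.2 j h).2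
    exact e ▸ p2
  have hK0 : K0 ≤ K := (Subgroup.closure_le _).mpr (by
    rintro _ ⟨j, h, rfl⟩
    rw [hsame j h]
    exact Subgroup.subset_closure ⟨_, ⟨j, by omega, rfl⟩, rfl⟩)
  let ι0 : K0 →* K := Subgroup.inclusion hK0
  have hder : ∀ x ∈ commutator K0, χ (ι0 x) = 1 := by
    have hle : (χ.comp ι0).range ≤ Subgroup.zpowers (τ3 0) := by
      rw [MonoidHom.range_eq_map, ← Subgroup.closure_closure_coe_preimage, MonoidHom.map_closure,
        Subgroup.closure_le]
      rintro _ ⟨⟨x, hxK⟩, ⟨j, h, hx⟩, rfl⟩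
      obtain rfl : x = el0 ⟨fam24a.pos j, hpos0 j h⟩ := hx
      show χ ⟨el0 _, _⟩ ∈ _
      have e : (⟨el0 ⟨fam24a.pos j, hpos0 j h⟩, hK0 hxK⟩ : K) =
          ⟨el ⟨fam24.pos j, hpos j (by omega)⟩, Subgroup.subset_closure ⟨_, ⟨j, by omega, rfl⟩, rfl⟩⟩ :=
        Subtype.ext (hsame j h)
      rw [e, hχ _ ⟨j, by omega, rfl⟩, hcl0 j h]
      exact Subgroup.mem_zpowers _
    intro x hx
    have : commutator K0 ≤ (χ.comp ι0).ker := by
      rw [_root_.commutator_def, Subgroup.commutator_le]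
      intro a _ b _
      rw [MonoidHom.mem_ker, map_commutatorElement, commutatorElement_eq_one_iff_mul_comm]
      obtain ⟨m, hm⟩ := hle ⟨a, rfl⟩
      obtain ⟨k, hk⟩ := hle ⟨b, rfl⟩
      rw [← hm, ← hk]
      exact ((Commute.refl _).zpow_zpow m k).eq
    exact this hx
  have hχs : Function.Surjective χ := by
    intro σ
    have m0 : τ3 0 ∈ χ.range := by
      refine ⟨⟨el ⟨fam24.pos 0, hpos 0 (by omega)⟩, Subgroup.subset_closure ⟨_, ⟨0, by omega, rfl⟩, rfl⟩⟩, ?_⟩
      rw [hχ _ ⟨0, by omega, rfl⟩, hcl0 0 hnpos]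
    obtain ⟨a, ha, ha0⟩ : ∃ a, τ3 a ∈ χ.range ∧ a ≠ 0 := by
      refine ⟨cl ⟨fam24.pos fam24a.jw.length, hpos fam24a.jw.length (by omega)⟩,
        ⟨⟨el ⟨fam24.pos fam24a.jw.length, hpos fam24a.jw.length (by omega)⟩, Subgroup.subset_closure ⟨_, ⟨fam24a.jw.length, by omega, rfl⟩, rfl⟩⟩,
          hχ _ ⟨fam24a.jw.length, by omega, rfl⟩⟩, fun e => three_classes.1 ((hclv _).symm.trans (congrArg Fin.val e))⟩
    have m1 : τ3 1 ∈ χ.range := by
      rcases (show ∀ a : Fin 3, a ≠ 0 → a = 1 ∨ τ3 1 = τ3 0 * τ3 a * τ3 0 by decide) a ha0 with rfl | e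
      · exact ha
      · rw [e]; exact mul_mem (mul_mem m0 ha) m0
    have hl := τ3_gen σ
    simp only [List.mem_cons, List.not_mem_nil, or_false] at hl
    rcases hl with rfl | rfl | rfl | rfl | rfl | rfl
    exacts [⟨1, map_one χ⟩, m0, m1, mul_mem m0 m1, mul_mem m1 m0, mul_mem (mul_mem m0 m1) m0]
  -- orders
  obtain ⟨M, hM, ⟨eM⟩⟩ := refl8
  have hM' : Nat.card M = 4952179814400 := (Nat.card_congr eM.toEquiv).trans card_pomega8
  let θ : K0 →* _ := eR.toMonoidHom.comp (QuotientGroup.mk' (Subgroup.center K0))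
  have hθ : Function.Surjective θ := eR.surjective.comp (QuotientGroup.mk'_surjective _)
  have hθc : (commutator K0).map θ = commutator _ := by
    rw [_root_.commutator_def, Subgroup.map_commutator, Subgroup.map_top_of_surjective θ hθ,
      ← _root_.commutator_def]
  have hKc : Nat.card K ≤ 29713078886400 := by
    rw [← card_pair24]
    refine Subgroup.card_le_of_le (hKle.trans ((Subgroup.closure_le _).mpr fun y hy => ⟨?_, ?_⟩))
    · exact Subgroup.mem_centralizer_singleton_iff.mpr hy.1.2.2.symm.eq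
    · exact Subgroup.mem_centralizer_singleton_iff.mpr hy.2.2.2.symm.eq
  have hq : χ.ker.index = 6 := by
    rw [Subgroup.index_ker, MonoidHom.range_eq_top.mpr hχs, Subgroup.card_top, Nat.card_perm, Nat.card_fin]; rfl
  have hkK := χ.ker.card_mul_index
  rw [hq] at hkK
  let ω : commutator K0 →* χ.ker := (ι0.comp (commutator K0).subtype).codRestrict χ.ker fun x => hder x x.2
  have hω : Function.Injective ω := fun a b e =>
    Subtype.ext (Subgroup.inclusion_injective hK0 (congrArg Subtype.val e))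
  have hc1 : Nat.card (commutator K0) ≤ Nat.card χ.ker := Nat.card_le_card_of_injective ω hω
  have hc2 : Nat.card (commutator (↥(Cfsg.reflectionSubgroup (⇑(QR π8)) 1) ⧸
      Subgroup.center ↥(Cfsg.reflectionSubgroup (⇑(QR π8)) 1))) ≤ Nat.card (commutator K0) := by
    rw [← hθc]
    exact Nat.card_le_card_of_surjective (θ.subgroupMap (commutator K0)) (θ.subgroupMap_surjective _)
  have hc3 := Subgroup.card_le_of_le hM
  have hKeq : Subgroup.closure (Ds Dset (σ4 0) ∩ Ds Dset (rootT 1)) = K :=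
    pair_closure hKle (by rw [card_pair24]; omega)
  let θD : commutator K0 →* commutator (↥(Cfsg.reflectionSubgroup (⇑(QR π8)) 1) ⧸
      Subgroup.center ↥(Cfsg.reflectionSubgroup (⇑(QR π8)) 1)) :=
    (MulEquiv.subgroupCongr hθc).toMonoidHom.comp (θ.subgroupMap (commutator K0))
  have hθD : Function.Bijective θD := (Nat.bijective_iff_surjective_and_card _).mpr
    ⟨(MulEquiv.subgroupCongr hθc).surjective.comp (θ.subgroupMap_surjective _), by omega⟩
  have hMeq : M = commutator _ := Subgroup.eq_of_le_of_card_ge hM (by omega)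
  have hωb : Function.Bijective ω := (Nat.bijective_iff_injective_and_card _).mpr ⟨hω, by omega⟩
  let eN : χ.ker ≃* Cfsg.POmega K3 (Cfsg.quadFormPlus 4 K3) :=
    (MulEquiv.ofBijective ω hωb).symm.trans ((MulEquiv.ofBijective θD hθD).trans
      ((MulEquiv.subgroupCongr hMeq.symm).trans eM))
  have hZ : Subgroup.center K = ⊥ := by
    refine (Subgroup.eq_bot_iff_forall _).mpr fun z hz => ?_
    have h1 : χ z = 1 := by
      refine τ3_centerless _ fun a => ?_
      obtain ⟨g, hg⟩ := hχs (τ3 a)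
      rw [← hg, ← map_inv, ← map_mul, ← map_mul, ← Subgroup.mem_center_iff.mp hz g, mul_inv_cancel_right]
    have h2 : (⟨z, h1⟩ : χ.ker) ∈ Subgroup.center χ.ker :=
      Subgroup.mem_center_iff.mpr fun g => Subtype.ext (Subgroup.mem_center_iff.mp hz g)
    have h3 : eN ⟨z, h1⟩ ∈ Subgroup.center (Cfsg.POmega K3 (Cfsg.quadFormPlus 4 K3)) :=
      Subgroup.mem_center_iff.mpr fun g => by
        obtain ⟨g, rfl⟩ := eN.surjective g
        rw [← map_mul, ← map_mul, Subgroup.mem_center_iff.mp h2 g]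
    rcases IsSimpleGroup.eq_bot_or_eq_top_of_normal (Subgroup.center (Cfsg.POmega K3 (Cfsg.quadFormPlus 4 K3)))
      inferInstance with h | h
    · rw [h, Subgroup.mem_bot, map_eq_one_iff _ eN.injective] at h3
      exact congrArg Subtype.val h3
    · exfalso
      letI : CommGroup (Cfsg.POmega K3 (Cfsg.quadFormPlus 4 K3)) :=
        { (inferInstance : Group (Cfsg.POmega K3 (Cfsg.quadFormPlus 4 K3))) with
          mul_comm := fun a b => (Subgroup.mem_center_iff.mp (h ▸ Subgroup.mem_top b : b ∈ Subgroup.center _) a) }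
      have hp := IsSimpleGroup.prime_card (α := Cfsg.POmega K3 (Cfsg.quadFormPlus 4 K3))
      rw [card_pomega8] at hp
      norm_num at hp
  obtain ⟨a⟩ := quot_congr hKeq
  let E : ↥(Subgroup.closure (Ds Dset (σ4 0) ∩ Ds Dset (rootT 1))) ⧸
      Subgroup.center ↥(Subgroup.closure (Ds Dset (σ4 0) ∩ Ds Dset (rootT 1))) ≃* K :=
    a.trans ((QuotientGroup.quotientMulEquivOfEq hZ).trans QuotientGroup.quotientBot)
  refine ⟨(χ.comp E.toMonoidHom).ker, inferInstance, ⟨?_⟩,
    ⟨QuotientGroup.quotientKerEquivOfSurjective _ (hχs.comp E.surjective)⟩⟩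
  have hmap : (χ.comp E.toMonoidHom).ker.map E.toMonoidHom = χ.ker := by
    rw [← MonoidHom.comap_ker, Subgroup.map_comap_eq_self_of_surjective E.surjective]
  exact (((χ.comp E.toMonoidHom).ker.equivMapOfInjective E.toMonoidHom E.injective).trans
    (MulEquiv.subgroupCongr hmap)).trans eN

end CfsgThreeTrans.Exist
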